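import Mathlib

/-!
# Lower bounds for the number of conjugacy classes
-/

set_option autoImplicit false
set_option linter.style.haveILetI false

namespace CfsgLib.Class49

open Subgroup

variable {G : Type*} [Group G] [Finite G]

theorem card_le_card_mul_of_fibre {α β : Type*} [Finite α] [Finite β] (f : α → β) (n : ℕ)
    (h : ∀ a : α, Nat.card {x // f x = f a} ≤ n) : Nat.card α ≤ Nat.card β * n := by
  classical
  haveI := Fintype.ofFinite α
  haveI := Fintype.ofFinite β
  rw [Nat.card_eq_fintype_card, Nat.card_eq_fintype_card, ← Finset.card_univ, ← Finset.card_univ]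
  refine (Finset.card_le_mul_card_image (f := f) Finset.univ n fun b hb => ?_).trans
    (by rw [mul_comm]; exact Nat.mul_le_mul_right n (Finset.card_le_univ _))
  obtain ⟨a, -, rfl⟩ := Finset.mem_image.1 hb
  rw [← Fintype.card_subtype, ← Nat.card_eq_fintype_card]
  exact h a

/-- A subgroup centralised by `C` meets every class in at most `[G : C]` elements. -/
theorem card_le_classes_mul_index (A C : Subgroup G) (hc : ∀ a ∈ A, ∀ c ∈ C, Commute a c) :
    Nat.card A ≤ Nat.card (ConjClasses G) * C.index := by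
  refine card_le_card_mul_of_fibre (fun a : A => ConjClasses.mk (a : G)) C.index fun a => ?_
  have hex : ∀ b : {b : A // ConjClasses.mk (b : G) = ConjClasses.mk (a : G)},
      ∃ g : G, g * (a : G) * g⁻¹ = (b.1 : G) := fun b =>
    isConj_iff.1 (ConjClasses.mk_eq_mk_iff_isConj.1 b.2.symm)
  choose g hg using hex
  refine Nat.card_le_card_of_injective (fun b => (g b : G ⧸ C)) fun b b' e => Subtype.ext (Subtype.ext ?_)
  rw [← hg b, ← hg b']
  have h1 : (g b)⁻¹ * g b' ∈ C := QuotientGroup.eq.1 e
  calc g b * (a : G) * (g b)⁻¹ = g b * ((a : G) * ((g b)⁻¹ * g b')) * (g b')⁻¹ := by group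
    _ = g b * (((g b)⁻¹ * g b') * (a : G)) * (g b')⁻¹ := by rw [(hc a a.2 _ h1).eq]
    _ = g b' * (a : G) * (g b')⁻¹ := by group

/-- An abelian subgroup gives classes. -/
theorem card_abelian_le (A : Subgroup G) (hA : ∀ a ∈ A, ∀ b ∈ A, Commute a b) :
    Nat.card A ≤ Nat.card (ConjClasses G) * A.index :=
  card_le_classes_mul_index A A hA

/-- The classes of a subgroup. -/
theorem classes_subgroup_le (H : Subgroup G) :
    Nat.card (ConjClasses H) ≤ Nat.card (ConjClasses G) * H.index := by
  refine card_le_card_mul_of_fibre (ConjClasses.map H.subtype) H.index fun c => ?_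
  obtain ⟨h, rfl⟩ := ConjClasses.mk_surjective c
  have hex : ∀ b : {b : ConjClasses H // ConjClasses.map H.subtype b =
      ConjClasses.map H.subtype (ConjClasses.mk h)},
      ∃ g : G, g * (h : G) * g⁻¹ ∈ H ∧ ∀ hh, ConjClasses.mk (⟨g * (h : G) * g⁻¹, hh⟩ : H) = b.1 := by
    rintro ⟨b, hb⟩
    obtain ⟨h', rfl⟩ := ConjClasses.mk_surjective b
    obtain ⟨g, hg⟩ := isConj_iff.1 (ConjClasses.mk_eq_mk_iff_isConj.1 hb.symm)
    exact ⟨g, hg ▸ h'.2, fun hh => congrArg ConjClasses.mk (Subtype.ext hg)⟩
  choose g hg1 hg2 using hex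
  refine Nat.card_le_card_of_injective (fun b => (((g b)⁻¹ : G) : G ⧸ H)) fun b b' e => Subtype.ext ?_
  rw [← hg2 b (hg1 b), ← hg2 b' (hg1 b'), ConjClasses.mk_eq_mk_iff_isConj, isConj_iff]
  have h1 : ((g b')⁻¹)⁻¹ * (g b)⁻¹ ∈ H := QuotientGroup.eq.1 e.symm
  refine ⟨⟨_, h1⟩, Subtype.ext ?_⟩
  simp [mul_assoc]

/-- The classes over a class of the quotient by a central subgroup. -/
theorem card_le_fibre (Z : Subgroup G) [Z.Normal] (h : G) (d : ℕ)
    (hd : Nat.card {z : Z // IsConj (h * z) h} ≤ d) (hZ : Z ≤ center G) :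
    Nat.card Z ≤ d * Nat.card {c : ConjClasses G //
      ConjClasses.map (QuotientGroup.mk' Z) c = ConjClasses.mk (h : G ⧸ Z)} := by
  rw [mul_comm]
  refine card_le_card_mul_of_fibre (fun z : Z => (⟨ConjClasses.mk (h * z), congrArg ConjClasses.mk (by
    show ((h * (z : G) : G) : G ⧸ Z) = (h : G ⧸ Z)
    rw [QuotientGroup.eq]; simp)⟩ : {c : ConjClasses G //
      ConjClasses.map (QuotientGroup.mk' Z) c = ConjClasses.mk (h : G ⧸ Z)})) d fun z => ?_
  refine le_trans (Nat.card_le_card_of_injective
    (fun w => (⟨z⁻¹ * w.1, ?_⟩ : {z : Z // IsConj (h * z) h})) ?_) hd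
  · obtain ⟨g, hg⟩ := isConj_iff.1 (ConjClasses.mk_eq_mk_iff_isConj.1 (congrArg Subtype.val w.2))
    have hc : ∀ x : G, Commute x ((z : G)⁻¹) := fun x =>
      (mem_center_iff.1 (hZ (inv_mem z.2)) x : _)
    refine isConj_iff.2 ⟨g, ?_⟩
    calc g * (h * ((z⁻¹ * w.1 : Z) : G)) * g⁻¹ = g * (h * ((z : G)⁻¹ * (w.1 : G))) * g⁻¹ := rfl
      _ = g * ((h * (w.1 : G)) * (z : G)⁻¹) * g⁻¹ := by
          rw [mul_assoc h, (hc (w.1 : G)).eq]
      _ = g * (h * (w.1 : G)) * g⁻¹ * (z : G)⁻¹ := by
          rw [mul_assoc g, mul_assoc _ (z : G)⁻¹, ← (hc g⁻¹).eq]; group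
      _ = h := by rw [hg, mul_inv_cancel_right]
  · intro w w' e
    exact Subtype.ext (mul_left_cancel (congrArg Subtype.val e))

/-- The classes are counted over the classes of the quotient. -/
theorem classes_eq_sum (Z : Subgroup G) [Z.Normal] [Fintype (ConjClasses (G ⧸ Z))] :
    Nat.card (ConjClasses G) = ∑ b : ConjClasses (G ⧸ Z),
      Nat.card {c : ConjClasses G // ConjClasses.map (QuotientGroup.mk' Z) c = b} := by
  rw [← Nat.card_sigma]
  exact Nat.card_congr (Equiv.sigmaFiberEquiv _).symm

theorem class_sizes_sum [Fintype (ConjClasses G)] :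
    ∑ c : ConjClasses G, Nat.card c.carrier = Nat.card G := by
  rw [← Nat.card_sigma]
  refine Nat.card_congr ((Equiv.sigmaCongrRight fun c => Equiv.subtypeEquivRight fun g => ?_).trans
    (Equiv.sigmaFiberEquiv ConjClasses.mk))
  exact ConjClasses.mem_carrier_iff_mk_eq

theorem card_carrier_eq_index (g : G) :
    Nat.card (ConjClasses.mk g).carrier = (centralizer ({g} : Set G)).index := by
  rw [← ConjAct.orbit_eq_carrier_conjClasses]
  have h := MulAction.index_stabilizer (ConjAct G) g
  rw [ConjAct.stabilizer_eq_centralizer] at h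
  rw [Nat.card_coe_set_eq]
  exact h.symm

theorem class_size_dvd (c : ConjClasses G) : Nat.card c.carrier ∣ Nat.card G := by
  obtain ⟨g, rfl⟩ := ConjClasses.mk_surjective c
  rw [card_carrier_eq_index]
  exact index_dvd_card _

theorem four_classes_arith {N a b c : ℕ} (ha : a ∣ N) (hb : b ∣ N) (hc : c ∣ N) (hab : a ≤ b)
    (hbc : b ≤ c) (hsum : 1 + a + b + c = N) : N ≤ 42 := by
  by_contra hN
  obtain ⟨i, hi⟩ := hc
  obtain ⟨j, hj⟩ := hb
  have hi3 : i ≤ 3 := by
    by_contra hcon
    have : c * 4 ≤ c * i := Nat.mul_le_mul_left c (by omega)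
    omega
  have hi2 : 2 ≤ i := by
    by_contra hcon
    interval_cases i <;> omega
  have hj6 : j ≤ 6 := by
    by_contra hcon
    have : b * 7 ≤ b * j := Nat.mul_le_mul_left b (by omega)
    interval_cases i <;> omega
  have hja : i ≤ j := by
    by_contra hcon
    have : c * j ≤ c * (i - 1) := Nat.mul_le_mul_left c (by omega)
    have : b * j ≤ c * j := Nat.mul_le_mul_right j hbc
    have h3 : c * (i - 1) + c = c * i := by rw [← Nat.mul_succ]; congr 1; omega
    omega
  have hkey : N * (i * j) = i * j * (1 + a) + N * j + N * i := by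
    calc N * (i * j) = (1 + a + b + c) * (i * j) := by rw [hsum]
      _ = i * j * (1 + a) + (c * i) * j + (b * j) * i := by ring
      _ = i * j * (1 + a) + N * j + N * i := by rw [← hi, ← hj]
  have hdvd : a ∣ i * j := by
    have h1 : a ∣ i * j * (1 + a) := by
      have h2 : a ∣ N * (i * j) := ha.mul_right _
      rw [hkey, Nat.dvd_add_left (ha.mul_right i), Nat.dvd_add_left (ha.mul_right j)] at h2
      exact h2
    rw [mul_add, mul_one, ← Nat.dvd_add_iff_left (Dvd.intro_left _ rfl)] at h1
    exact h1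
  have hle : a ≤ i * j := Nat.le_of_dvd (Nat.mul_pos (by omega) (by omega)) hdvd
  interval_cases i <;> interval_cases j <;> omega

/-- The sorted class sizes when there are few classes. -/
theorem exists_class_sizes {n : ℕ} (hn : Nat.card (ConjClasses G) = n + 1) :
    ∃ s : List ℕ, s.length = n ∧ s.Pairwise (· ≤ ·) ∧ 1 + s.sum = Nat.card G ∧
      ∀ a ∈ s, a ∣ Nat.card G ∧ ∃ g : G, g ≠ 1 ∧ (centralizer ({g} : Set G)).index = a := by
  classical
  haveI := Fintype.ofFinite (ConjClasses G)
  set m : Multiset ℕ :=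
    (Finset.univ.erase (ConjClasses.mk (1 : G))).val.map fun c => Nat.card c.carrier
  have hone : Nat.card (ConjClasses.mk (1 : G)).carrier = 1 := by
    rw [card_carrier_eq_index, Subgroup.index_eq_one, eq_top_iff]
    exact fun x _ => mem_centralizer_singleton_iff.2 (by simp)
  refine ⟨m.sort (· ≤ ·), ?_, Multiset.pairwise_sort m (· ≤ ·), ?_, fun a ha => ?_⟩
  · rw [Multiset.length_sort, Multiset.card_map]
    show (Finset.univ.erase (ConjClasses.mk (1 : G))).card = n
    rw [Finset.card_erase_of_mem (Finset.mem_univ _), Finset.card_univ, ← Nat.card_eq_fintype_card, hn,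
      Nat.add_sub_cancel]
  · rw [← Multiset.sum_coe, Multiset.sort_eq, ← class_sizes_sum (G := G),
      ← Finset.add_sum_erase _ _ (Finset.mem_univ (ConjClasses.mk (1 : G))), hone]
    rfl
  · rw [Multiset.mem_sort, Multiset.mem_map] at ha
    obtain ⟨c, hc, rfl⟩ := ha
    obtain ⟨g, rfl⟩ := ConjClasses.mk_surjective c
    exact ⟨class_size_dvd _, g, fun e => (Finset.mem_erase.1 hc).1 (by rw [e]), (card_carrier_eq_index g).symm⟩

theorem card_le_six (h : Nat.card (ConjClasses G) ≤ 3) : Nat.card G ≤ 6 := by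
  have hk : 1 ≤ Nat.card (ConjClasses G) := Nat.card_pos
  obtain ⟨n, hn⟩ : ∃ n, Nat.card (ConjClasses G) = n + 1 := ⟨_, (Nat.sub_add_cancel hk).symm⟩
  obtain ⟨s, hs, hsort, hsum, hd⟩ := exists_class_sizes hn
  rcases s with _ | ⟨a, _ | ⟨b, _ | ⟨c, s⟩⟩⟩
  · simp at hsum; omega
  · simp at hsum
    have ha := (hd a List.mem_cons_self).1
    rw [← hsum, Nat.dvd_add_self_right] at ha
    have := Nat.le_of_dvd (by norm_num) ha
    omega
  · simp at hsum hsort
    have ha := (hd a List.mem_cons_self).1
    obtain ⟨i, hi⟩ := (hd b (List.mem_cons_of_mem _ List.mem_cons_self)).1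
    by_contra hN
    have hi2 : i = 2 := by
      have h1 : ¬ i ≤ 1 := fun h1 => by interval_cases i <;> omega
      have h3 : ¬ 3 ≤ i := fun h3 => by
        have : b * 3 ≤ b * i := Nat.mul_le_mul_left b h3
        omega
      omega
    subst hi2
    have hb : b = a + 1 := by omega
    have h2 : a ∣ a * 2 + 2 := by rwa [show Nat.card G = a * 2 + 2 by omega] at ha
    rw [← Nat.dvd_add_iff_right (Dvd.intro _ rfl)] at h2
    have := Nat.le_of_dvd (by norm_num) h2
    omega
  · simp at hs
    omega

theorem card_le_forty_two (h : Nat.card (ConjClasses G) ≤ 4) : Nat.card G ≤ 42 := by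
  by_cases h3 : Nat.card (ConjClasses G) ≤ 3
  · exact (card_le_six h3).trans (by norm_num)
  obtain ⟨s, hs, hsort, hsum, hd⟩ := exists_class_sizes (n := 3) (G := G) (by omega)
  match s, hs with
  | [a, b, c], _ =>
    simp at hsum hsort
    exact four_classes_arith (hd a (by simp)).1 (hd b (by simp)).1 (hd c (by simp)).1 hsort.1.1 hsort.2
      (by omega)

/-- A group of order `24` has at least five classes. -/
theorem five_le_of_card (hG : Nat.card G = 24) : 5 ≤ Nat.card (ConjClasses G) := by
  by_contra h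
  have h3 : ¬ Nat.card (ConjClasses G) ≤ 3 := fun h3 => by have := card_le_six h3; omega
  obtain ⟨s, hs, hsort, hsum, hd⟩ := exists_class_sizes (n := 3) (G := G) (by omega)
  haveI : Fact (Nat.Prime 2) := ⟨Nat.prime_two⟩
  have key : ∀ a ∈ s, a ∈ ({1, 2, 3, 4, 6, 8} : Finset ℕ) := by
    intro a ha
    obtain ⟨hdvd, g, hg, hidx⟩ := hd a ha
    rw [hG] at hdvd
    have hle := Nat.le_of_dvd (by norm_num) hdvd
    have hsumle := List.le_sum_of_mem ha
    have ha0 : 0 < a := Nat.pos_of_ne_zero fun e => by simp [e] at hdvd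
    by_contra hmem
    have ha12 : a = 12 ∨ a = 24 := by
      interval_cases a <;> first | omega | (norm_num at hdvd; done) | simp_all
    rcases ha12 with rfl | rfl
    swap
    · omega
    -- a centraliser of order two
    have hcard : Nat.card (centralizer ({g} : Set G)) = 2 := by
      have := (centralizer ({g} : Set G)).card_mul_index
      rw [hidx, hG] at this
      omega
    have hgC : g ∈ centralizer ({g} : Set G) := mem_centralizer_singleton_iff.2 rfl
    have hord : orderOf g = 2 :=
      ((Nat.dvd_prime Nat.prime_two).1 (hcard ▸ Subgroup.orderOf_dvd_natCard _ hgC)).resolve_left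
        fun e => hg (orderOf_eq_one_iff.1 e)
    obtain ⟨P, hP⟩ := (IsPGroup.of_card (n := 1)
      (by rw [pow_one, Nat.card_zpowers, hord]) : IsPGroup 2 (zpowers g)).exists_le_sylow
    have hgP : g ∈ (P : Subgroup G) := hP (mem_zpowers g)
    have hP8 : Nat.card P = 8 := by
      rw [P.card_eq_multiplicity, hG]
      have : (24 : ℕ).factorization 2 = 3 := by
        rw [show (24 : ℕ) = 2 ^ 3 * 3 by norm_num, Nat.factorization_mul (by norm_num) (by norm_num),
          Finsupp.add_apply, Nat.Prime.factorization_pow Nat.prime_two,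
          Nat.factorization_eq_zero_of_not_dvd (by norm_num : ¬ 2 ∣ 3)]
        simp
      rw [this]; norm_num
    haveI : Nontrivial (P : Subgroup G) := Finite.one_lt_card_iff_nontrivial.1 (by
      show 1 < Nat.card P; omega)
    haveI := P.isPGroup'.center_nontrivial
    obtain ⟨⟨z, hz⟩, hz1⟩ := exists_ne (1 : center (P : Subgroup G))
    have hzC : (z : G) ∈ centralizer ({g} : Set G) :=
      mem_centralizer_singleton_iff.2 (congrArg Subtype.val (mem_center_iff.1 hz ⟨g, hgP⟩)).symm
    have hzg : (z : G) = g := by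
      by_contra hne
      have h3 : Nat.card ({1, (z : G), g} : Set G) ≤ Nat.card (centralizer ({g} : Set G)) :=
        Nat.card_mono (Set.toFinite _) (by
          rintro x (rfl | rfl | rfl)
          · exact one_mem _
          · exact hzC
          · exact hgC)
      rw [Nat.card_coe_set_eq, Set.ncard_insert_of_notMem, Set.ncard_pair hne, hcard] at h3
      · omega
      · rintro (h1 | h1)
        · exact hz1 (Subtype.ext (Subtype.ext h1.symm))
        · exact hg h1.symm
    have hle : (P : Subgroup G) ≤ centralizer ({g} : Set G) := fun y hy =>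
      mem_centralizer_singleton_iff.2 (hzg ▸ congrArg Subtype.val (mem_center_iff.1 hz ⟨y, hy⟩))
    have := card_le_of_le hle
    rw [hcard] at this
    omega
  match s, hs with
  | [a, b, c], _ =>
    simp at hsum hsort
    have ha := key a (by simp)
    have hb := key b (by simp)
    have hc := key c (by simp)
    simp only [Finset.mem_insert, Finset.mem_singleton] at ha hb hc
    omega

end CfsgLib.Class49
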