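import Cfsg.Agent.Lib.Class49.Primitive
import Mathlib

/-!
# The invariant for solvable irreducible groups

By induction on the dimension: imprimitive groups inherit the invariant from the block groups.
-/

set_option autoImplicit false
set_option linter.style.haveILetI false
set_option maxHeartbeats 800000

namespace CfsgLib.Class49

open Subgroup CfsgLib.ClassBound

theorem monomial_arith {p : ℕ} (hp : 11 ≤ p) {t : ℕ} (ht : 2 ≤ t) :
    (49 * min (3 ^ (t - 1)) t.factorial) ^ 2 * p ^ 2 ≤ 119 ^ 2 * p ^ t := by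
  rcases Nat.lt_or_ge t 5 with h | h
  · interval_cases t
    · exact Nat.mul_le_mul_right _ (by decide)
    · calc (49 * min (3 ^ (3 - 1)) (Nat.factorial 3)) ^ 2 * p ^ 2 ≤ 119 ^ 2 * 11 * p ^ 2 :=
            Nat.mul_le_mul_right _ (by decide)
        _ ≤ 119 ^ 2 * p * p ^ 2 := by gcongr
        _ = 119 ^ 2 * p ^ 3 := by ring
    · calc (49 * min (3 ^ (4 - 1)) (Nat.factorial 4)) ^ 2 * p ^ 2 ≤ 119 ^ 2 * 11 ^ 2 * p ^ 2 :=
            Nat.mul_le_mul_right _ (by decide)
        _ ≤ 119 ^ 2 * p ^ 2 * p ^ 2 := by gcongr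
        _ = 119 ^ 2 * p ^ 4 := by ring
  · refine le_trans (Nat.mul_le_mul_right _ (Nat.pow_le_pow_left (Nat.mul_le_mul_left 49 (min_le_left _ _)) 2)) ?_
    obtain ⟨j, rfl⟩ : ∃ j, t = 5 + j := ⟨t - 5, by omega⟩
    rw [show 5 + j - 1 = 4 + j by omega]
    calc (49 * 3 ^ (4 + j)) ^ 2 * p ^ 2 = (49 * 81) ^ 2 * 9 ^ j * p ^ 2 := by
          rw [show (9 : ℕ) = 3 ^ 2 from rfl, ← pow_mul, mul_comm 2 j, pow_mul, pow_add]; ring
      _ ≤ 119 ^ 2 * 11 ^ 3 * 11 ^ j * p ^ 2 := by
          gcongr <;> norm_num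
      _ ≤ 119 ^ 2 * p ^ 3 * p ^ j * p ^ 2 := by gcongr
      _ = 119 ^ 2 * p ^ (5 + j) := by rw [pow_add]; ring

theorem blocks_arith {p : ℕ} (hp : 11 ≤ p) {t e : ℕ} (ht : 1 ≤ t) (f : Fin t → ℕ)
    (hf : ∀ i, (49 * f i) ^ 2 * p ^ 2 ≤ 119 ^ 2 * p ^ e) {I : ℕ}
    (hI : I ≤ 3 ^ (t - 1) * ∏ i, f i) : (49 * I) ^ 2 * p ^ 2 ≤ 119 ^ 2 * p ^ (t * e) := by
  obtain ⟨s, rfl⟩ : ∃ s, t = s + 1 := ⟨t - 1, by omega⟩
  rw [Nat.add_sub_cancel] at hI
  have hF : (49 ^ (s + 1) * ∏ i, f i) ^ 2 * (p ^ 2) ^ (s + 1) ≤ (119 ^ 2 * p ^ e) ^ (s + 1) := by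
    have h := Finset.prod_le_prod' (s := Finset.univ) fun i _ => hf i
    rw [Finset.prod_mul_distrib, Finset.prod_pow, Finset.prod_mul_distrib, Finset.prod_const,
      Finset.prod_const, Finset.prod_const, Finset.card_univ, Fintype.card_fin] at h
    exact h
  refine Nat.le_of_mul_le_mul_right ?_ (show 0 < ((49 * p) ^ 2) ^ s by positivity)
  calc (49 * I) ^ 2 * p ^ 2 * ((49 * p) ^ 2) ^ s
      ≤ (49 * (3 ^ s * ∏ i, f i)) ^ 2 * p ^ 2 * ((49 * p) ^ 2) ^ s := by gcongr
    _ = (3 ^ 2) ^ s * ((49 ^ (s + 1) * ∏ i, f i) ^ 2 * (p ^ 2) ^ (s + 1)) := by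
        simp only [mul_pow, ← pow_mul]; ring
    _ ≤ (3 ^ 2) ^ s * (119 ^ 2 * p ^ e) ^ (s + 1) := Nat.mul_le_mul_left _ hF
    _ = 119 ^ 2 * p ^ ((s + 1) * e) * ((3 * 119) ^ 2) ^ s := by
        simp only [mul_pow, ← pow_mul]; ring
    _ ≤ 119 ^ 2 * p ^ ((s + 1) * e) * ((49 * p) ^ 2) ^ s :=
        Nat.mul_le_mul_left _ (Nat.pow_le_pow_left (Nat.pow_le_pow_left (by omega) 2) s)

section Blocks

variable {X : Type} [Group X] [Finite X] {p : ℕ} [Fact p.Prime] {V : Type} [AddCommGroup V]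
  [Module (ZMod p) V] [Finite V] {ρ : X →* Module.End (ZMod p) V} (B : Blocks ρ)

omit [Finite X] [Finite V] in
theorem index_stab_le (i : Fin B.t) : (B.stab i).index ≤ B.t := by
  have hwell : ∀ a b : X, QuotientGroup.leftRel (B.stab i) a b → B.σ a i = B.σ b i := by
    intro a b h
    rw [QuotientGroup.leftRel_apply] at h
    have h' : B.σ (a⁻¹ * b) i = i := h
    rw [map_mul, Equiv.Perm.mul_apply, map_inv, Equiv.Perm.inv_eq_iff_eq] at h'
    exact h'.symm
  refine (Nat.card_le_card_of_injective (Quotient.lift (fun g => B.σ g i) hwell) ?_).trans_eq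
    (Nat.card_fin _)
  intro a b
  induction a using Quotient.inductionOn with
  | h a =>
  induction b using Quotient.inductionOn with
  | h b =>
  intro e
  refine Quotient.sound ?_
  show QuotientGroup.leftRel (B.stab i) a b
  rw [QuotientGroup.leftRel_apply]
  show B.σ (a⁻¹ * b) i = i
  have e' : B.σ a i = B.σ b i := e
  rw [map_mul, Equiv.Perm.mul_apply, map_inv, Equiv.Perm.inv_eq_iff_eq, e']

omit [Finite V] in
/-- Abelian subgroups of the block groups give one of the whole group. -/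
theorem exists_abelian (hsol : Group.IsSolvable X) (hinj : Function.Injective ρ)
    (A : ∀ i, Subgroup (B.stab i ⧸ (B.res i).ker)) (hA : ∀ i, ∀ a ∈ A i, ∀ b ∈ A i, Commute a b) :
    ∃ H : Subgroup X, (∀ a ∈ H, ∀ b ∈ H, Commute a b) ∧
      H.index ≤ min (3 ^ (B.t - 1)) B.t.factorial * ∏ i, (A i).index := by
  let f : ∀ i, B.σ.ker →* B.stab i ⧸ (B.res i).ker := fun i =>
    (QuotientGroup.mk' (B.res i).ker).comp (inclusion (B.ker_le_stab i))
  let H' : Subgroup B.σ.ker := ⨅ i, (A i).comap (f i)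
  refine ⟨H'.map B.σ.ker.subtype, ?_, ?_⟩
  · rintro _ ⟨a, ha, rfl⟩ _ ⟨b, hb, rfl⟩
    have h1 : a * b * a⁻¹ * b⁻¹ = 1 := by
      refine B.jointly_injective hinj _ fun i => MonoidHom.mem_ker.1 ((QuotientGroup.eq_one_iff _).1 ?_)
      show f i (a * b * a⁻¹ * b⁻¹) = 1
      rw [map_mul, map_mul, map_mul, map_inv, map_inv,
        (hA i _ (Subgroup.mem_iInf.1 ha i) _ (Subgroup.mem_iInf.1 hb i)).eq]
      group
    show (a : X) * b = b * a
    have h2 : a * b = b * a := by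
      calc a * b = (a * b * a⁻¹ * b⁻¹) * (b * a) := by group
        _ = b * a := by rw [h1, one_mul]
    exact congrArg Subtype.val h2
  · rw [index_map_subtype, mul_comm]
    refine Nat.mul_le_mul ?_ ((index_iInf_le _).trans (Finset.prod_le_prod' fun i _ => ?_))
    · exact le_min ((permOrd B.t).of_quot hsol B.σ (Fintype.card_fin _))
        ((Nat.card_le_card_of_injective _ (QuotientGroup.kerLift_injective B.σ)).trans_eq
          (by rw [Nat.card_perm, Nat.card_fin]))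
    · rw [index_comap]
      exact (relIndex_le_of_le_right (le_top : (f i).range ≤ ⊤)
        (by rw [relIndex_top_right]; exact index_ne_zero_of_finite)).trans_eq (relIndex_top_right _)

/-- A block group with one of the two product bounds. -/
theorem inv_of_block (hp : 11 ≤ p) (hirr : Irred ρ) (i : Fin B.t)
    (h : p ^ 2 ≤ 5 * (Nat.card (ConjClasses (B.stab i ⧸ (B.res i).ker)) * orbNum (quotRep (B.res i))) ∨
      (p ^ 2 - 1 ≤ 6 * (Nat.card (ConjClasses (B.stab i ⧸ (B.res i).ker)) * orbNum (quotRep (B.res i))) ∧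
        (orbNum (quotRep (B.res i)) = 1 → p ≤ 23))) : Inv ρ := by
  set kb := Nat.card (ConjClasses (B.stab i ⧸ (B.res i).ker))
  set xb := orbNum (quotRep (B.res i))
  set k := Nat.card (ConjClasses X)
  set x := orbNum ρ
  have hk : kb ≤ k * B.t :=
    ((card_conjClasses_le_of_surjective (QuotientGroup.mk' _) (QuotientGroup.mk'_surjective _)).trans
      (classes_subgroup_le (B.stab i))).trans (Nat.mul_le_mul_left _ (index_stab_le B i))
  obtain ⟨hx1, hx2⟩ := orbNum_blocks B hirr i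
  have hprod : kb * xb ≤ k * x := by
    calc kb * xb ≤ k * B.t * xb := Nat.mul_le_mul_right _ hk
      _ = k * (B.t * xb) := mul_assoc _ _ _
      _ ≤ k * x := Nat.mul_le_mul_left _ hx1
  rcases h with h | ⟨h6, h23⟩
  · exact Or.inr (Or.inl (h.trans (Nat.mul_le_mul_left 5 hprod)))
  haveI := (B.irred_res hirr i).1
  have hxb : 1 ≤ xb := one_le_orbNum _
  rcases Nat.lt_or_ge xb 2 with h1 | h2
  · have hp23 := h23 (by omega)
    have h6' := h6.trans (Nat.mul_le_mul_left 6 hprod)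
    exact Or.inr (Or.inr ⟨h6', sum_of_prod Fact.out hp hp23 h6', fun _ => hp23⟩)
  · refine Or.inr (Or.inl ?_)
    have h5 : 5 * (kb * xb) ≤ 4 * (k * x) := by
      calc 5 * (kb * xb) ≤ 5 * (k * B.t * xb) := Nat.mul_le_mul_left 5 (Nat.mul_le_mul_right _ hk)
        _ = k * (5 * (B.t * xb)) := by ring
        _ ≤ k * (4 * x) := Nat.mul_le_mul_left _ (hx2 h2)
        _ = 4 * (k * x) := by ring
    have hp2 : 121 ≤ p ^ 2 := Nat.pow_le_pow_left hp 2
    show p ^ 2 ≤ 5 * (k * x)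
    omega

end Blocks

/-- The invariant holds for all solvable irreducible groups over a prime field with at least 11 elements. -/
theorem invariant {p : ℕ} [Fact p.Prime] (hp : 11 ≤ p) : ∀ d : ℕ,
    ∀ (X : Type) [Group X] [Finite X] (V : Type) [AddCommGroup V] [Module (ZMod p) V] [Finite V]
      (ρ : X →* Module.End (ZMod p) V),
      Group.IsSolvable X → Function.Injective ρ → Irred ρ → Module.finrank (ZMod p) V = d → Inv ρ := by
  intro d
  induction d using Nat.strong_induction_on with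
  | _ d ih =>
  intro X _ _ V _ _ _ ρ hsol hinj hirr hd
  haveI : FiniteDimensional (ZMod p) V := Module.Finite.of_finite
  haveI := hsol
  rcases blocks_or_fieldData ρ hsol hinj hirr with ⟨⟨B⟩⟩ | ⟨⟨D⟩⟩
  swap
  · exact inv_field hinj hp D
  have ht := B.two_le
  let i₀ : Fin B.t := ⟨0, by omega⟩
  have hfr := B.finrank_eq hirr i₀
  have hpos := B.finrank_pos i₀
  have hW : ∀ i, Module.finrank (ZMod p) (B.W i) = Module.finrank (ZMod p) (B.W i₀) := fun i =>
    B.finrank_W_eq hirr i i₀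
  have hlt : Module.finrank (ZMod p) (B.W i₀) < d := by
    rw [← hd, hfr]
    exact lt_mul_left hpos ht
  have hIH : ∀ i, Inv (quotRep (B.res i)) := fun i =>
    ih _ hlt (B.stab i ⧸ (B.res i).ker) (B.W i) (quotRep (B.res i)) inferInstance (quotRep_injective _)
      (B.irred_res hirr i).quotRep (hW i)
  by_cases hex : ∃ i, p ^ 2 ≤ 5 * (Nat.card (ConjClasses (B.stab i ⧸ (B.res i).ker)) *
      orbNum (quotRep (B.res i))) ∨
      (p ^ 2 - 1 ≤ 6 * (Nat.card (ConjClasses (B.stab i ⧸ (B.res i).ker)) * orbNum (quotRep (B.res i))) ∧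
        (orbNum (quotRep (B.res i)) = 1 → p ≤ 23))
  · obtain ⟨i, hi⟩ := hex
    exact inv_of_block B hp hirr i hi
  push Not at hex
  have hAb : ∀ i, ∃ A : Subgroup (B.stab i ⧸ (B.res i).ker), (∀ a ∈ A, ∀ b ∈ A, Commute a b) ∧
      ((Module.finrank (ZMod p) (B.W i₀) = 1 ∧ A.index = 1) ∨
        (2 ≤ Module.finrank (ZMod p) (B.W i₀) ∧
          (49 * A.index) ^ 2 * p ^ 2 ≤ 119 ^ 2 * p ^ Module.finrank (ZMod p) (B.W i₀))) := by
    intro i
    rcases hIH i with h | h | ⟨h1, -, h3⟩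
    · simpa [hW i] using h
    · exact absurd h (not_le.2 (hex i).1)
    · obtain ⟨hx, hp23⟩ := (hex i).2 h1
      exact absurd (h3 hx) (not_le.2 hp23)
  choose A hA hbound using hAb
  obtain ⟨H, hH, hidx⟩ := exists_abelian B hsol hinj A hA
  refine Or.inl ⟨H, hH, Or.inr ⟨?_, ?_⟩⟩
  · rw [hfr]
    exact le_trans ht (Nat.le_mul_of_pos_right _ hpos)
  rw [hfr]
  rcases eq_or_lt_of_le (Nat.one_le_iff_ne_zero.2 hpos.ne') with h1 | h2
  · have hone : ∀ i, (A i).index = 1 := fun i => by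
      rcases hbound i with ⟨-, h⟩ | ⟨h, -⟩
      · exact h
      · omega
    rw [Finset.prod_eq_one fun i _ => hone i, mul_one] at hidx
    rw [← h1, mul_one]
    exact le_trans (Nat.mul_le_mul_right _ (Nat.pow_le_pow_left (Nat.mul_le_mul_left 49 hidx) 2))
      (monomial_arith hp ht)
  · refine blocks_arith hp (by omega) (fun i => (A i).index) (fun i => ?_)
      (hidx.trans (Nat.mul_le_mul_right _ (min_le_left _ _)))
    rcases hbound i with ⟨h, -⟩ | ⟨-, h⟩
    · omega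
    · exact h

/-- Classes of the group plus orbits on nonzero vectors, in dimension at least two. -/
theorem classes_add_orbits {p : ℕ} [Fact p.Prime] (hp : 11 ≤ p) {X : Type} [Group X] [Finite X]
    {V : Type} [AddCommGroup V] [Module (ZMod p) V] [Finite V] (ρ : X →* Module.End (ZMod p) V)
    (hsol : Group.IsSolvable X) (hinj : Function.Injective ρ) (hirr : Irred ρ)
    (hd : 2 ≤ Module.finrank (ZMod p) V) :
    49 * p ≤ 60 * (Nat.card (ConjClasses X) + orbNum ρ) := by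
  have horb := orb_count (ρ := ρ) (by omega : 0 < Module.finrank (ZMod p) V)
  set k := Nat.card (ConjClasses X)
  set x := orbNum ρ
  set d := Module.finrank (ZMod p) V with hdd
  by_contra hlt
  rw [not_le] at hlt
  have hsq : 14400 * (k * x) < 2401 * p ^ 2 := by
    have h4 : 4 * (k * x) ≤ (k + x) ^ 2 := by rw [← mul_assoc]; exact four_mul_le_sq_add k x
    calc 14400 * (k * x) = 3600 * (4 * (k * x)) := by ring
      _ ≤ 3600 * (k + x) ^ 2 := Nat.mul_le_mul_left _ h4
      _ = (60 * (k + x)) ^ 2 := by ring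
      _ < (49 * p) ^ 2 := Nat.pow_lt_pow_left hlt (by norm_num)
      _ = 2401 * p ^ 2 := by ring
  rcases invariant hp d X V ρ hsol hinj hirr hdd.symm with ⟨A, hA, ⟨h1, -⟩ | ⟨-, hbd⟩⟩ | h | ⟨-, h, -⟩
  · omega
  · set f := A.index
    have hkx : p ^ d - 1 ≤ f ^ 2 * (k * x) := by
      calc p ^ d - 1 ≤ x * Nat.card X := horb
        _ = x * (Nat.card A * f) := by rw [A.card_mul_index]
        _ ≤ x * (k * f * f) := Nat.mul_le_mul_left _ (Nat.mul_le_mul_right _ (card_abelian_le A hA))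
        _ = f ^ 2 * (k * x) := by ring
    have h1 : 14400 * (p ^ d - 1) ≤ 119 ^ 2 * p ^ d := by
      calc 14400 * (p ^ d - 1) ≤ 14400 * (f ^ 2 * (k * x)) := Nat.mul_le_mul_left _ hkx
        _ = f ^ 2 * (14400 * (k * x)) := by ring
        _ ≤ f ^ 2 * (2401 * p ^ 2) := Nat.mul_le_mul_left _ hsq.le
        _ = (49 * f) ^ 2 * p ^ 2 := by ring
        _ ≤ 119 ^ 2 * p ^ d := hbd
    have h2 : 121 ≤ p ^ d :=
      (Nat.pow_le_pow_left hp 2).trans (Nat.pow_le_pow_right (by omega) hd)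
    omega
  · have h' : p ^ 2 ≤ 5 * (k * x) := h
    omega
  · have h' : 49 * p ≤ 60 * (k + x) := h
    omega

end CfsgLib.Class49
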