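import Cfsg.Agent.Lib.ClassBound.Perm
import Mathlib

/-!
# Orders of solvable permutation groups

A solvable permutation group on `n` points has order at most `3 ^ (n - 1)`.
-/

set_option autoImplicit false
set_option linter.style.haveILetI false

namespace CfsgLib.Class49

open Subgroup CfsgLib.ClassBound

theorem card_le_of_hom {G G' : Type*} [Group G] [Finite G] [Group G'] [Finite G'] (f : G →* G')
    {a b : ℕ} (ha : Nat.card f.ker ≤ a) (hb : Nat.card G' ≤ b) : Nat.card G ≤ a * b := by
  rw [← f.ker.card_mul_index, index_ker]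
  exact Nat.mul_le_mul ha ((card_le_card_group f.range).trans hb)

/-- A group mapped jointly injectively into several groups is no larger than their product. -/
theorem card_le_of_jointly_injective {ι : Type*} [Fintype ι] {G : Type*} [Group G]
    {P : ι → Type*} [∀ i, Group (P i)] [∀ i, Finite (P i)] (f : ∀ i, G →* P i)
    (hinj : ∀ x, (∀ i, f i x = 1) → x = 1) : Nat.card G ≤ ∏ i, Nat.card (P i) := by
  rw [← Nat.card_pi]
  exact Nat.card_le_card_of_injective (fun x i => f i x) (fun x y e => inv_mul_eq_one.1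
    (hinj _ fun i => by
      have e' : f i x = f i y := congrFun e i
      rw [map_mul, map_inv, e', inv_mul_cancel]))

universe u v

/-- The order bound in degree `n`. -/
def PermOrd (n : ℕ) : Prop :=
  ∀ (G : Type u) (Ω : Type v) [Group G] [Finite G] [Fintype Ω] [MulAction G Ω] [FaithfulSMul G Ω],
    Group.IsSolvable G → Fintype.card Ω = n → Nat.card G ≤ 3 ^ (n - 1)

theorem PermOrd.of_hom {n : ℕ} (h : PermOrd.{u, v} n) {G : Type u} [Group G] [Finite G]
    (hG : Group.IsSolvable G) {Ω : Type v} [Fintype Ω] (f : G →* Equiv.Perm Ω)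
    (hf : Function.Injective f) (hn : Fintype.card Ω = n) : Nat.card G ≤ 3 ^ (n - 1) := by
  letI : MulAction G Ω := MulAction.compHom Ω f
  haveI : FaithfulSMul G Ω := ⟨fun {g g'} hgg => hf (Equiv.ext hgg)⟩
  exact h G Ω hG hn

theorem PermOrd.of_quot {n : ℕ} (h : PermOrd.{u, v} n) {G : Type u} [Group G] [Finite G]
    (hG : Group.IsSolvable G) {Ω : Type v} [Fintype Ω] (f : G →* Equiv.Perm Ω)
    (hn : Fintype.card Ω = n) : Nat.card (G ⧸ f.ker) ≤ 3 ^ (n - 1) :=
  haveI := hG
  h.of_hom inferInstance (QuotientGroup.kerLift f) (QuotientGroup.kerLift_injective f) hn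

theorem permOrd : ∀ n, PermOrd.{u, v} n := by
  intro n
  induction n using Nat.strong_induction_on with
  | _ n ih =>
  intro G Ω _ _ _ _ _ hG hn
  classical
  haveI := hG
  by_cases hn4 : n ≤ 4
  · refine id ?_
    refine (Nat.card_le_card_of_injective (MulAction.toPermHom G Ω) MulAction.toPerm_injective).trans ?_
    rw [Nat.card_perm, Nat.card_eq_fintype_card, hn]
    interval_cases n <;> decide
  haveI : Nonempty Ω := Fintype.card_pos_iff.1 (by omega)
  by_cases hGtr : MulAction.IsPretransitive G Ω
  swap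
  · -- at least two orbits
    obtain ⟨α, β, hαβ⟩ : ∃ α β : Ω, β ∉ MulAction.orbit G α := by
      by_contra! hcon
      exact hGtr ⟨fun a b => hcon a b⟩
    let A : Set Ω := MulAction.orbit G α
    have hA : ∀ (g : G), ∀ x ∈ A, g • x ∈ A := fun g x hx => by
      obtain ⟨h, rfl⟩ := hx
      exact ⟨g * h, mul_smul g h α⟩
    have hB : ∀ (g : G), ∀ x ∈ Aᶜ, g • x ∈ Aᶜ := fun g x hx hgx => hx (by
      simpa using hA g⁻¹ _ hgx)
    have hsum : Fintype.card A + Fintype.card (Aᶜ : Set Ω) = n := by
      rw [← hn, Fintype.card_compl_set]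
      have := Fintype.card_subtype_le (fun x => x ∈ A)
      simp only [Fintype.card_ofFinset] at *
      omega
    have hApos : 0 < Fintype.card A := Fintype.card_pos_iff.2 ⟨⟨α, MulAction.mem_orbit_self α⟩⟩
    have hBpos : 0 < Fintype.card (Aᶜ : Set Ω) := Fintype.card_pos_iff.2 ⟨⟨β, hαβ⟩⟩
    let fA := inducedHom A hA
    let fB := inducedHom Aᶜ hB
    have h1 : Nat.card (G ⧸ fA.ker) ≤ 3 ^ (Fintype.card A - 1) :=
      (ih _ (by omega)).of_quot hG fA rfl
    have h2 : Nat.card fA.ker ≤ 3 ^ (Fintype.card (Aᶜ : Set Ω) - 1) := by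
      refine (ih _ (by omega)).of_hom inferInstance (fB.comp fA.ker.subtype) ?_ rfl
      refine (injective_iff_map_eq_one _).2 fun x hx => Subtype.ext ?_
      refine eq_of_smul_eq_smul fun y : Ω => ?_
      rw [OneMemClass.coe_one, one_smul]
      by_cases hy : y ∈ A
      · exact congrArg Subtype.val (DFunLike.congr_fun (MonoidHom.mem_ker.1 x.2 : fA x = 1) ⟨y, hy⟩)
      · exact congrArg Subtype.val (DFunLike.congr_fun (hx : fB (x : G) = 1) ⟨y, hy⟩)
    have h3 := card_le_of_hom (QuotientGroup.mk' fA.ker)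
      (a := 3 ^ (Fintype.card (Aᶜ : Set Ω) - 1))
      (by rw [QuotientGroup.ker_mk']; exact h2) h1
    refine h3.trans ?_
    rw [← pow_add]
    exact Nat.pow_le_pow_right (by norm_num) (by omega)
  haveI := hGtr
  haveI : Nontrivial Ω := Fintype.one_lt_card_iff_nontrivial.1 (by omega)
  haveI : Nontrivial G := by
    obtain ⟨a, b, hab⟩ := exists_pair_ne Ω
    obtain ⟨g, hg⟩ := MulAction.exists_smul_eq G a b
    exact ⟨⟨g, 1, fun e => hab (by rw [← hg, e, one_smul])⟩⟩
  obtain ⟨N, hN, hNne, hNc⟩ := exists_abelian_normal G hG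
  haveI := hN
  obtain ⟨α⟩ : Nonempty Ω := inferInstance
  let ι := MulAction.orbitRel.Quotient N Ω
  haveI : Fintype ι := Fintype.ofFinite ι
  let q : Ω → ι := Quotient.mk (MulAction.orbitRel N Ω)
  have hq : ∀ (g : G) (a b : Ω), q a = q b → q (g • a) = q (g • b) := by
    intro g a b hab
    obtain ⟨x, rfl⟩ : a ∈ MulAction.orbit N b := Quotient.exact hab
    refine Quotient.sound ⟨⟨g * x * g⁻¹, hN.conj_mem x x.2 g⟩, ?_⟩
    show (g * (x : G) * g⁻¹) • g • b = g • (x : G) • b
    rw [mul_smul, mul_smul, inv_smul_smul]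
  by_cases hone : Fintype.card ι = 1
  · -- regular normal subgroup
    haveI : MulAction.IsPretransitive N Ω := ⟨fun a b => by
      have hsub : Subsingleton ι := Fintype.card_le_one_iff_subsingleton.1 hone.le
      exact Quotient.exact (hsub.elim (q b) (q a))⟩
    have hreg : ∀ x : N, x • α = α → x = 1 := by
      intro x hx
      refine Subtype.ext (eq_of_smul_eq_smul fun y : Ω => ?_)
      obtain ⟨m, rfl⟩ := MulAction.exists_smul_eq N α y
      show (x : G) • (m • α) = (1 : G) • (m • α)
      rw [one_smul]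
      show x • m • α = m • α
      rw [← mul_smul, show x * m = m * x from hNc.is_comm.comm x m, mul_smul, hx]
    have hNn : Nat.card N = n := by
      rw [← hn, ← Nat.card_eq_fintype_card]
      refine Nat.card_eq_of_bijective (fun x : N => x • α) ⟨fun a b hab => ?_,
        fun y => MulAction.exists_smul_eq N α y⟩
      refine inv_mul_eq_one.1 (hreg (b⁻¹ * a) ?_) |>.symm
      rw [mul_smul]
      exact inv_smul_eq_iff.2 hab
    set St := MulAction.stabilizer G α with hSt
    have hcard : Nat.card G = n * Nat.card St := by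
      rw [← St.card_mul_index, hSt, MulAction.index_stabilizer_of_transitive G α,
        Nat.card_eq_fintype_card (α := Ω), hn, mul_comm]
    obtain ⟨S, hS, hS1, hScard⟩ := CfsgLib.Maximal.CompLengthBound.exists_small_generating N
    let φ : St →* MulAut N := (MulAut.conjNormal (H := N)).comp St.subtype
    have hφ : ∀ (g : St) (x : N), ((φ g x : N) : G) = (g : G) * x * (g : G)⁻¹ :=
      fun g x => MulAut.conjNormal_apply _ _
    have hφinj : Function.Injective φ := by
      intro g h hgh
      refine Subtype.ext (eq_of_smul_eq_smul fun y : Ω => ?_)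
      obtain ⟨x, hx⟩ := MulAction.exists_smul_eq N α y
      have e := congrArg (fun ψ : MulAut N => ((ψ x : N) : G)) hgh
      simp only [hφ] at e
      have e1 : ∀ a : G, a • α = α → a • ((x : G) • α) = (a * x * a⁻¹) • α := fun a ha => by
        have : a⁻¹ • α = α := by rw [inv_smul_eq_iff, ha]
        rw [mul_smul, mul_smul, this]
      rw [← hx]
      show (g : G) • ((x : G) • α) = (h : G) • ((x : G) • α)
      rw [e1 _ g.2, e1 _ h.2, e]
    haveI := Fintype.ofFinite N
    let emb : St → (S ↪ {x : N // x ≠ 1}) := fun g =>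
      ⟨fun s => ⟨φ g s.1, fun h => hS1 ((φ g).map_eq_one_iff.1 h ▸ s.2)⟩,
        fun a b hab => Subtype.ext ((φ g).injective (congrArg Subtype.val hab))⟩
    have hemb : Function.Injective emb := by
      intro g h hgh
      apply hφinj
      refine MulEquiv.ext fun x => ?_
      have : Subgroup.closure (S : Set N) ≤
          MonoidHom.eqLocus (φ g).toMonoidHom (φ h).toMonoidHom :=
        (Subgroup.closure_le _).2 fun s hs => by
          show φ g s = φ h s
          exact congrArg Subtype.val (DFunLike.congr_fun hgh ⟨s, hs⟩)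
      exact this (hS ▸ Subgroup.mem_top x)
    have hStle : Nat.card St ≤ (n - 1).descFactorial S.card := by
      refine (Nat.card_le_card_of_injective emb hemb).trans (le_of_eq ?_)
      rw [Nat.card_eq_fintype_card, Fintype.card_embedding_eq, Fintype.card_coe,
        Fintype.card_subtype_compl, Fintype.card_subtype_eq, ← Nat.card_eq_fintype_card (α := N), hNn]
    refine id (hcard ▸ (Nat.mul_le_mul_left n hStle).trans ?_)
    exact arith_regular_pow (by omega) (hNn ▸ hScard)
  -- blocks
  have hqsurj : Function.Surjective q := fun i => Quotient.exists_rep i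
  have hlt : Fintype.card ι < n := by
    rw [← hn]
    refine lt_of_le_of_ne (Fintype.card_le_of_surjective q hqsurj) fun e => hNne ?_
    have hinj := ((Fintype.bijective_iff_surjective_and_card q).2 ⟨hqsurj, e.symm⟩).1
    refine (Subgroup.eq_bot_iff_forall _).2 fun x hx => eq_of_smul_eq_smul fun y : Ω => ?_
    rw [one_smul]
    exact hinj (Quotient.sound ⟨⟨x, hx⟩, rfl⟩)
  letI : SMul G ι := ⟨fun g i => Quotient.liftOn i (fun a => q (g • a))
    fun a b hab => hq g a b (Quotient.sound hab)⟩
  letI : MulAction G ι :=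
    { one_smul := fun i => Quotient.inductionOn i fun a => congrArg q (one_smul G a)
      mul_smul := fun g h i => Quotient.inductionOn i fun a => congrArg q (mul_smul g h a) }
  let σ := MulAction.toPermHom G ι
  have hfib : ∀ (i : ι) (g : σ.ker), ∀ x ∈ {x | q x = i}, (g : G) • x ∈ {x | q x = i} := by
    intro i g x hx
    have h1 : q ((g : G) • x) = q x := DFunLike.congr_fun (MonoidHom.mem_ker.1 g.2 : σ g = 1) (q x)
    exact h1.trans hx
  have hpos : ∀ i : ι, 1 ≤ Fintype.card {x | q x = i} := fun i =>
    Fintype.card_pos_iff.2 ⟨⟨(hqsurj i).choose, (hqsurj i).choose_spec⟩⟩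
  have hsum : ∑ i : ι, Fintype.card {x | q x = i} = n := by
    rw [← hn, ← Fintype.card_congr (Equiv.sigmaFiberEquiv q), Fintype.card_sigma]
    rfl
  have hι : 1 < Fintype.card ι := by
    have : 0 < Fintype.card ι := Fintype.card_pos_iff.2 ⟨q α⟩
    omega
  have hfac : ∀ i : ι, Fintype.card {x | q x = i} < n := by
    intro i
    obtain ⟨j, hj⟩ := Fintype.exists_ne_of_one_lt_card hι i
    have h1 : Fintype.card {x | q x = i} + Fintype.card {x | q x = j} ≤ n := by
      rw [← hsum, ← Finset.sum_pair (f := fun i => Fintype.card {x | q x = i}) hj.symm]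
      exact Finset.sum_le_sum_of_subset (Finset.subset_univ _)
    have := hpos j
    omega
  let f : ∀ i : ι, σ.ker →* Equiv.Perm {x | q x = i} := fun i => inducedHom _ (hfib i)
  have h1 : Nat.card σ.ker ≤ ∏ i : ι, 3 ^ (Fintype.card {x | q x = i} - 1) := by
    refine (card_le_of_jointly_injective (P := fun i => σ.ker ⧸ (f i).ker)
      (fun i => QuotientGroup.mk' _) ?_).trans
      (Finset.prod_le_prod' fun i _ => (ih _ (hfac i)).of_quot inferInstance (f i) rfl)
    intro x hx
    refine Subtype.ext (eq_of_smul_eq_smul fun y : Ω => ?_)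
    rw [OneMemClass.coe_one, one_smul]
    have h2 : f (q y) x = 1 := (QuotientGroup.eq_one_iff x).1 (hx (q y))
    exact congrArg Subtype.val (DFunLike.congr_fun h2 ⟨y, rfl⟩)
  have h2 : Nat.card (G ⧸ σ.ker) ≤ 3 ^ (Fintype.card ι - 1) := (ih _ hlt).of_quot hG σ rfl
  have h3 := card_le_of_hom (QuotientGroup.mk' σ.ker)
    (a := ∏ i : ι, 3 ^ (Fintype.card {x | q x = i} - 1))
    (by rw [QuotientGroup.ker_mk']; exact h1) h2
  refine h3.trans ?_
  rw [Finset.prod_pow_eq_pow_sum, ← pow_add]
  refine Nat.pow_le_pow_right (by norm_num) ?_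
  have := sum_sub_one_add_card _ hpos
  omega

end CfsgLib.Class49
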