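import Cfsg.Agent.Lib.ClassBound.Decompose
import Cfsg.Agent.Lib.Class49.PermOrder
import Mathlib

/-!
# The order of the group induced on the symplectic layer

For `C` as in `ClassBound.Setting`, the group `C / kerMod C M` has order at most `phi m`, where `m ^ 2` is the
index of the scalars in `M`.
-/

set_option autoImplicit false
set_option linter.style.haveILetI false
set_option maxHeartbeats 800000

namespace CfsgLib.Class49

open Subgroup CfsgLib.ClassBound
open scoped commutatorElement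

/-- Bound for the group induced on a layer of degree `m`. -/
def phi (m : ℕ) : ℕ :=
  if m ≤ 1 then 1 else if m = 2 then 6 else if m = 3 then 24 else if m = 4 then 72
  else if m = 5 then 120 else if m = 6 then 144 else if m = 7 then 336 else m ^ 6 / 3

theorem phi_pos (m : ℕ) : 1 ≤ phi m := by
  unfold phi
  split_ifs <;> first | omega | skip
  rw [Nat.le_div_iff_mul_le (by norm_num)]
  have : 8 ^ 6 ≤ m ^ 6 := Nat.pow_le_pow_left (by omega) 6
  omega

theorem phi_of_le_one {m : ℕ} (h : m ≤ 1) : phi m = 1 := if_pos h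

theorem phi_of_ge {m : ℕ} (h : 8 ≤ m) : phi m = m ^ 6 / 3 := by
  unfold phi
  split_ifs <;> omega

theorem three_mul_phi_le {m : ℕ} (h : 2 ≤ m) : 3 * phi m ≤ m ^ 6 := by
  by_cases h8 : 8 ≤ m
  · rw [phi_of_ge h8]; exact Nat.mul_div_le _ _
  · interval_cases m <;> decide

theorem phi_mul {a b : ℕ} (ha : 1 ≤ a) (hb : 1 ≤ b) : phi a * phi b ≤ phi (a * b) := by
  rcases Nat.lt_or_ge a 2 with ha2 | ha2
  · obtain rfl : a = 1 := by omega
    simp [phi_of_le_one]
  rcases Nat.lt_or_ge b 2 with hb2 | hb2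
  · obtain rfl : b = 1 := by omega
    simp [phi_of_le_one]
  by_cases h8 : 8 ≤ a * b
  · rw [phi_of_ge h8, Nat.le_div_iff_mul_le (by norm_num)]
    calc phi a * phi b * 3 ≤ (3 * phi a) * (3 * phi b) := by ring_nf; omega
      _ ≤ a ^ 6 * b ^ 6 := Nat.mul_le_mul (three_mul_phi_le ha2) (three_mul_phi_le hb2)
      _ = (a * b) ^ 6 := (mul_pow a b 6).symm
  · have : a ≤ 3 := by nlinarith
    have : b ≤ 3 := by nlinarith
    interval_cases a <;> interval_cases b <;> first | decide | omega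

theorem prime_le_phi {p : ℕ} (hp : p.Prime) : (p ^ 2 - 1) * p ≤ phi p := by
  by_cases h8 : 8 ≤ p
  · rw [phi_of_ge h8, Nat.le_div_iff_mul_le (by norm_num)]
    have h1 : 8 ^ 3 ≤ p ^ 3 := Nat.pow_le_pow_left h8 3
    have h2 : (p ^ 2 - 1) * p ≤ p ^ 3 := (Nat.mul_le_mul_right p (Nat.sub_le _ _)).trans (by ring_nf; rfl)
    calc (p ^ 2 - 1) * p * 3 ≤ p ^ 3 * p ^ 3 := Nat.mul_le_mul h2 (by omega)
      _ = p ^ 6 := by ring
  · have := hp.two_le
    interval_cases p <;> first | decide | exact absurd hp (by decide)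

/-- The order bound for one piece of the layer. -/
def PieceOrd (p a : ℕ) [Fact p.Prime] : Prop :=
  ∀ (X : Type) [Group X] [Finite X] (W : Type) [AddCommGroup W] [Module (ZMod p) W]
    [FiniteDimensional (ZMod p) W] (σ : X →* Module.End (ZMod p) W),
    Group.IsSolvable X → Function.Injective σ → Irred σ → Module.finrank (ZMod p) W = 2 * a →
      Nat.card X ≤ phi (p ^ a)

/-- The piece bound for all the prime powers up to `m`. -/
def PiecesOrdUpTo (m : ℕ) : Prop :=
  ∀ (p a : ℕ) (hp : p.Prime), 2 ≤ a → p ^ a ≤ m → @PieceOrd p a ⟨hp⟩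

/-- A faithful irreducible action on an elementary abelian group obeys the piece bound. -/
theorem card_le_of_faithful_action {K : Type} [Group K] [Finite K] (hK : Group.IsSolvable K)
    {W : Type} [AddCommGroup W] {p a : ℕ} [Fact p.Prime] [Module (ZMod p) W] [Finite W]
    (act : K → W →+ W) (h1 : ∀ w, act 1 w = w) (hmul : ∀ g g' w, act (g * g') w = act g (act g' w))
    (hinj : ∀ g, (∀ w, act g w = w) → g = 1) (ha : 1 ≤ a) (hcard : Nat.card W = p ^ (2 * a))
    (hmin : ∀ U : AddSubgroup W, (∀ g, ∀ q ∈ U, act g q ∈ U) → U = ⊥ ∨ U = ⊤)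
    (hpiece : PieceOrd p a) : Nat.card K ≤ phi (p ^ a) := by
  haveI : FiniteDimensional (ZMod p) W := Module.Finite.of_finite
  let σ : K →* Module.End (ZMod p) W :=
    { toFun := fun g => AddMonoidHom.toZModLinearMap p (act g)
      map_one' := LinearMap.ext fun w => h1 w
      map_mul' := fun g g' => LinearMap.ext fun w => hmul g g' w }
  have hfr : Module.finrank (ZMod p) W = 2 * a :=
    Nat.pow_right_injective (Fact.out : p.Prime).two_le
      ((FiniteField.pow_finrank_eq_natCard p W).trans hcard)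
  haveI : Nontrivial W :=
    Module.nontrivial_of_finrank_pos (R := ZMod p) (M := W) (by omega)
  refine hpiece K W σ hK ((injective_iff_map_eq_one σ).2 fun g hg => hinj g fun w =>
    LinearMap.congr_fun hg w) ⟨inferInstance, fun U hU => ?_⟩ hfr
  rcases hmin U.toAddSubgroup (fun g q hq => hU g q hq) with h | h
  · exact Or.inl ((Submodule.eq_bot_iff U).2 fun w hw =>
      AddSubgroup.mem_bot.1 (h ▸ (hw : w ∈ U.toAddSubgroup)))
  · exact Or.inr (eq_top_iff.2 fun w _ =>
      (h.symm ▸ AddSubgroup.mem_top _ : w ∈ U.toAddSubgroup))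

/-- A group acting irreducibly on an elementary abelian group obeys the piece bound. -/
theorem card_range_le_phi {X : Type} [Group X] [Finite X] (hX : Group.IsSolvable X)
    {Q : Type} [CommGroup Q] [Finite Q] (act : X →* MulAut Q) {p a : ℕ} [Fact p.Prime]
    (hexp : ∀ q : Q, q ^ p = 1) (ha : 1 ≤ a) (hcard : Nat.card Q = p ^ (2 * a))
    (hmin : ∀ U : Subgroup Q, (∀ g, ∀ q ∈ U, act g q ∈ U) → U = ⊥ ∨ U = ⊤)
    (hpiece : PieceOrd p a) : Nat.card act.range ≤ phi (p ^ a) := by
  letI iM : Module (ZMod p) (Additive Q) := AddCommGroup.zmodModule fun w =>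
    Additive.toMul.injective (hexp (Additive.toMul w))
  haveI := hX
  refine card_le_of_faithful_action (Group.isSolvable_of_surjective act.rangeRestrict_surjective)
    (W := Additive Q) (fun g => MonoidHom.toAdditive (g : MulAut Q).toMonoidHom)
    (fun w => rfl) (fun g g' w => rfl)
    (fun g hg => Subtype.ext (MulEquiv.ext fun q =>
      Additive.ofMul.injective (hg (Additive.ofMul q))))
    ha hcard (fun U hU => ?_) hpiece
  rcases hmin U.toSubgroup' (fun g q hq => hU ⟨act g, ⟨g, rfl⟩⟩ _ hq) with h | h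
  · exact Or.inl (eq_bot_iff.2 fun w hw => Additive.toMul.injective
      (Subgroup.mem_bot.1 (h ▸ (hw : Additive.toMul w ∈ U.toSubgroup'))))
  · exact Or.inr (eq_top_iff.2 fun w _ =>
      (h.symm ▸ Subgroup.mem_top _ : Additive.toMul w ∈ U.toSubgroup'))

variable {k : Type*} [Field k] {V : Type*} [AddCommGroup V] [Module k V] {X : Type} [Group X]
  [Finite X] {C : Subgroup X} {ρ : C →* Module.End k V}

/-- The conjugation action of `X` on a layer modulo scalars. -/
noncomputable def layerAct (M : Subgroup X) [M.Normal] [(zC C).Normal] :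
    X →* MulAut (M ⧸ (zC C).subgroupOf M) :=
  MonoidHom.mk' (fun g => QuotientGroup.congr ((zC C).subgroupOf M) ((zC C).subgroupOf M)
      (MulAut.conjNormal g) (by
        ext y
        refine (Subgroup.mem_map_equiv (f := MulAut.conjNormal g)).trans ?_
        rw [mem_subgroupOf, mem_subgroupOf, MulAut.conjNormal_symm_apply]
        refine ⟨fun hy => ?_, fun hy => by simpa using ‹(zC C).Normal›.conj_mem _ hy g⁻¹⟩
        have h5 := ‹(zC C).Normal›.conj_mem _ hy g
        simpa [mul_assoc] using h5))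
    fun g g' => MulEquiv.ext fun q => by
      obtain ⟨y, rfl⟩ := QuotientGroup.mk_surjective q
      show ((MulAut.conjNormal (g * g') y : M) : M ⧸ (zC C).subgroupOf M) =
        ((MulAut.conjNormal g (MulAut.conjNormal g' y) : M) : M ⧸ (zC C).subgroupOf M)
      rw [map_mul, MulAut.mul_apply]

theorem mem_kerMod_of_layerAct {M : Subgroup X} [M.Normal] [(zC C).Normal] {g : C}
    (hg : layerAct (C := C) M (g : X) = 1) : g ∈ kerMod C M := by
  refine mem_subgroupOf.2 ⟨g.2, fun y hy => ?_⟩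
  have h3 : ((MulAut.conjNormal (g : X) (⟨y, hy⟩ : M) : M) : M ⧸ (zC C).subgroupOf M) =
      ((⟨y, hy⟩ : M) : M ⧸ (zC C).subgroupOf M) :=
    DFunLike.congr_fun hg ((⟨y, hy⟩ : M) : M ⧸ (zC C).subgroupOf M)
  have h4 := ‹(zC C).Normal›.conj_mem _ (mem_zC_of_mk_eq h3.symm) y
  rw [MulAut.conjNormal_apply] at h4
  show ⁅(g : X), y⁆ ∈ zC C
  rw [commutatorElement_def]
  simpa [mul_assoc] using h4

theorem index_kerMod_le {M : Subgroup X} [M.Normal] [(zC C).Normal] :
    (kerMod C M).index ≤ Nat.card ((layerAct (C := C) M).comp C.subtype).range := by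
  rw [← index_ker]
  exact Nat.le_of_dvd (Nat.pos_of_ne_zero index_ne_zero_of_finite)
    (index_dvd_of_le fun g hg => mem_kerMod_of_layerAct (MonoidHom.mem_ker.1 hg))

variable (h : Setting C ρ)
include h

/-- A piece of dimension two. -/
theorem index_two {M : Subgroup X} (hM : M.Normal) (hMF : M ≤ fitC C) {p : ℕ}
    [hp : Fact p.Prime] (hidx : (zC C).relIndex M = p ^ 2) :
    (kerMod C M).index ≤ (p ^ 2 - 1) * p := by
  classical
  haveI := hM
  haveI := h.normal
  haveI := zC_normal C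
  have hMC : M ≤ C := hMF.trans (fitC_le C)
  have hcomm : ∀ x ∈ M, ∀ y ∈ M, ⁅x, y⁆ ∈ zC C := fun x hx y hy =>
    h.commutator_fitC x (hMF hx) y (hMF hy)
  obtain ⟨u, hu, v, hv, huv⟩ : ∃ u ∈ M, ∃ v ∈ M, ⁅u, v⁆ ≠ 1 := by
    by_contra! hcon
    have hle : M ≤ zC C := h.eq_zC_of_abelian hM hMC fun a ha b hb =>
      commutatorElement_eq_one_iff_commute.1 (hcon a ha b hb)
    rw [relIndex_eq_one.2 hle] at hidx
    have := Nat.one_lt_pow (n := 2) (by norm_num) hp.out.one_lt
    omega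
  set N := (zC C).subgroupOf M with hN
  have hcardQ : Nat.card (M ⧸ N) = p ^ 2 := hidx
  -- the classes commuting with a given element
  let T : X → Subgroup (M ⧸ N) := fun a =>
    ((centralizer ({a} : Set X)).subgroupOf M).map (QuotientGroup.mk' N)
  have hT : ∀ a ∈ M, ∀ y : M, (y : M ⧸ N) ∈ T a ↔ Commute a (y : X) := by
    intro a ha y
    constructor
    · rintro ⟨z, hz, e⟩
      have hz' : Commute a (z : X) := (mem_centralizer_singleton_iff.1 (mem_subgroupOf.1 hz)).symm
      have hw : Commute a ((z : X)⁻¹ * y) := commute_zC (mem_zC_of_mk_eq e) (hMC ha)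
      simpa using hz'.mul_right hw
    · exact fun hy => ⟨y, mem_subgroupOf.2 (mem_centralizer_singleton_iff.2 hy.symm), rfl⟩
  let ub : M ⧸ N := ((⟨u, hu⟩ : M) : M ⧸ N)
  let vb : M ⧸ N := ((⟨v, hv⟩ : M) : M ⧸ N)
  have hub : ub ≠ 1 := fun e => huv (commutatorElement_eq_one_iff_commute.2
    (commute_zC (mem_subgroupOf.1 ((QuotientGroup.eq_one_iff _).1 e)) (hMC hv)).symm)
  have hsmall : ∀ {a b : X}, a ∈ M → ∀ hb : b ∈ M, ¬ Commute a b → Nat.card (T a) ≤ p := by
    intro a b ha hb hab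
    have hdvd : Nat.card (T a) ∣ p ^ 2 := hcardQ ▸ (T a).card_subgroup_dvd_card
    obtain ⟨j, hj, e⟩ := (Nat.dvd_prime_pow hp.out).1 hdvd
    rcases Nat.lt_or_ge j 2 with hj2 | hj2
    · rw [e]
      exact (Nat.pow_le_pow_right hp.out.pos (by omega : j ≤ 1)).trans_eq (pow_one p)
    · refine absurd ((hT a ha ⟨b, hb⟩).1 ?_) hab
      rw [Subgroup.eq_top_of_card_eq (T a) (by rw [e, hcardQ, show j = 2 by omega])]
      exact Subgroup.mem_top _
  have hgen : Subgroup.closure ({ub, vb} : Set (M ⧸ N)) = ⊤ := by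
    set W := Subgroup.closure ({ub, vb} : Set (M ⧸ N))
    have hdvd : Nat.card W ∣ p ^ 2 := hcardQ ▸ W.card_subgroup_dvd_card
    obtain ⟨j, hj, e⟩ := (Nat.dvd_prime_pow hp.out).1 hdvd
    have hsub : Subgroup.zpowers ub ≤ W :=
      Subgroup.zpowers_le.2 (Subgroup.subset_closure (Set.mem_insert _ _))
    have hvW : vb ∈ W := Subgroup.subset_closure (Set.mem_insert_of_mem _ rfl)
    rcases Nat.lt_or_ge j 2 with hj2 | hj2
    · -- `W` would lie in the classes commuting with `u`
      exfalso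
      have hW1 : W ≤ T u := by
        have hle : Subgroup.zpowers ub ≤ T u := Subgroup.zpowers_le.2
          ((hT u hu ⟨u, hu⟩).2 (Commute.refl u))
        have hWeq : Subgroup.zpowers ub = W := by
          refine Subgroup.eq_of_le_of_card_ge hsub ?_
          have h1 : Nat.card W ≤ p := by
            rw [e]; exact (Nat.pow_le_pow_right hp.out.pos (by omega : j ≤ 1)).trans_eq (pow_one p)
          refine h1.trans ?_
          rw [Nat.card_zpowers]
          have hd : orderOf ub ∣ p ^ 2 := hcardQ ▸ orderOf_dvd_natCard ub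
          obtain ⟨i, hi, e'⟩ := (Nat.dvd_prime_pow hp.out).1 hd
          rw [e']
          rcases i with _ | i
          · exact absurd (orderOf_eq_one_iff.1 (e'.trans (pow_zero p))) hub
          · exact Nat.le_self_pow (by omega) p
        exact hWeq ▸ hle
      exact huv (commutatorElement_eq_one_iff_commute.2 ((hT u hu ⟨v, hv⟩).1 (hW1 hvW)))
    · exact Subgroup.eq_top_of_card_eq W (by rw [e, hcardQ, show j = 2 by omega])
  refine (index_kerMod_le (C := C) (M := M)).trans ?_
  set R := ((layerAct (C := C) M).comp C.subtype).range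
  haveI := Fintype.ofFinite R
  haveI := Fintype.ofFinite (M ⧸ N)
  let φ : R → M ⧸ N := fun r => (r : MulAut (M ⧸ N)) ub
  have himg : Finset.univ.image φ ⊆ Finset.univ.erase 1 := by
    intro q hq
    obtain ⟨r, -, rfl⟩ := Finset.mem_image.1 hq
    exact Finset.mem_erase.2 ⟨fun e => hub ((r : MulAut (M ⧸ N)).map_eq_one_iff.1 e), Finset.mem_univ _⟩
  have hfib : ∀ q ∈ Finset.univ.image φ, (Finset.univ.filter fun r => φ r = q).card ≤ p := by
    intro q hq
    obtain ⟨r₀, -, rfl⟩ := Finset.mem_image.1 hq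
    obtain ⟨g₀, hg₀⟩ := r₀.2
    have hcj : ∀ (g : C) (y : X), y ∈ M → (g : X) * y * (g : X)⁻¹ ∈ M := fun g y hy => hM.conj_mem y hy _
    have hnc : ¬ Commute ((g₀ : X) * u * (g₀ : X)⁻¹) ((g₀ : X) * v * (g₀ : X)⁻¹) := fun hc =>
      huv (commutatorElement_eq_one_iff_commute.2 (by
        have := hc.map (MulAut.conj (g₀ : X)⁻¹).toMonoidHom
        simpa [mul_assoc] using this))
    let w₀ : M ⧸ N := ((⟨(g₀ : X) * v * (g₀ : X)⁻¹, hcj g₀ v hv⟩ : M) : M ⧸ N)
    refine le_trans ?_ (hsmall (hcj g₀ u hu) (hcj g₀ v hv) hnc)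
    rw [← Fintype.card_subtype, ← Nat.card_eq_fintype_card]
    refine Nat.card_le_card_of_injective
      (fun r => (⟨w₀⁻¹ * (r.1 : MulAut (M ⧸ N)) vb, ?_⟩ : T ((g₀ : X) * u * (g₀ : X)⁻¹))) ?_
    · obtain ⟨g, hg⟩ := r.1.2
      have hgu : (((⟨(g : X) * u * (g : X)⁻¹, hcj g u hu⟩ : M)) : M ⧸ N) =
          ((⟨(g₀ : X) * u * (g₀ : X)⁻¹, hcj g₀ u hu⟩ : M) : M ⧸ N) := by
        have e1 : φ r.1 = φ r₀ := r.2
        simp only [φ] at e1
        rw [← hg, ← hg₀] at e1
        exact e1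
      have hgv : (r.1 : MulAut (M ⧸ N)) vb =
          (((⟨(g : X) * v * (g : X)⁻¹, hcj g v hv⟩ : M)) : M ⧸ N) := by rw [← hg]; rfl
      rw [hgv, show w₀⁻¹ * (((⟨(g : X) * v * (g : X)⁻¹, hcj g v hv⟩ : M)) : M ⧸ N) =
        (((⟨(g₀ : X) * v * (g₀ : X)⁻¹, hcj g₀ v hv⟩ : M)⁻¹ *
          ⟨(g : X) * v * (g : X)⁻¹, hcj g v hv⟩ : M) : M ⧸ N) from rfl, hT _ (hcj g₀ u hu)]
      -- both pairs have the same commutator
      have hz := mem_zC_of_mk_eq hgu
      set a := (g₀ : X) * u * (g₀ : X)⁻¹ with ha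
      set a' := (g : X) * u * (g : X)⁻¹ with ha'
      set b := (g₀ : X) * v * (g₀ : X)⁻¹ with hb
      set b' := (g : X) * v * (g : X)⁻¹ with hb'
      have hinv : ∀ g : C, (g : X) * ⁅u, v⁆ * (g : X)⁻¹ = ⁅u, v⁆ := fun g => by
        rw [(commute_zC (hcomm u hu v hv) g.2).eq, mul_inv_cancel_right]
      have e2 : ⁅a, b⁆ = ⁅u, v⁆ := by
        rw [← hinv g₀, ha, hb]; simp only [commutatorElement_def]; group
      have e3 : ⁅a', b'⁆ = ⁅u, v⁆ := by
        rw [← hinv g, ha', hb']; simp only [commutatorElement_def]; group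
      have hb'M : b' ∈ M := hcj g v hv
      have e4 : ⁅a', b'⁆ = ⁅a, b'⁆ := by
        have hc : ⁅a'⁻¹ * a, b'⁆ = 1 :=
          commutatorElement_eq_one_iff_commute.2 (commute_zC hz (hMC hb'M)).symm
        have hm := commutator_mul_left (C := C) (x := a') (x' := a'⁻¹ * a) (y := b')
          (hMC (hcj g u hu)) (by rw [hc]; exact one_mem _)
        rw [mul_inv_cancel_left, hc, one_mul] at hm
        exact hm.symm
      have e5 : ⁅a, b⁻¹ * b'⁆ = 1 := by
        have hm := commutator_mul_right (C := C) (x := a) (y := b) (y' := b⁻¹ * b')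
          (hMC (hcj g₀ v hv)) (hcomm _ (hcj g₀ u hu) _ (mul_mem (inv_mem (hcj g₀ v hv)) hb'M))
        rw [mul_inv_cancel_left, ← e4, e3, e2] at hm
        exact mul_eq_left.1 hm.symm
      exact commutatorElement_eq_one_iff_commute.1 e5
    · intro r r' e
      have e' : (r.1 : MulAut (M ⧸ N)) vb = (r'.1 : MulAut (M ⧸ N)) vb :=
        mul_left_cancel (congrArg Subtype.val e)
      have e'' : (r.1 : MulAut (M ⧸ N)) ub = (r'.1 : MulAut (M ⧸ N)) ub := r.2.trans r'.2.symm
      refine Subtype.ext (Subtype.ext (MulEquiv.ext fun q => ?_))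
      have hle : Subgroup.closure ({ub, vb} : Set (M ⧸ N)) ≤
          MonoidHom.eqLocus (r.1 : MulAut (M ⧸ N)).toMonoidHom (r'.1 : MulAut (M ⧸ N)).toMonoidHom := by
        rw [Subgroup.closure_le]
        rintro x (rfl | rfl)
        · exact e''
        · exact e'
      exact hle (hgen ▸ Subgroup.mem_top q)
  rw [Nat.card_eq_fintype_card, ← Finset.card_univ]
  calc Finset.univ.card ≤ p * (Finset.univ.image φ).card :=
        Finset.card_le_mul_card_image Finset.univ p hfib
    _ ≤ p * (p ^ 2 - 1) := Nat.mul_le_mul_left p ((Finset.card_le_card himg).trans_eq (by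
        rw [Finset.card_erase_of_mem (Finset.mem_univ _), Finset.card_univ, ← Nat.card_eq_fintype_card,
          hcardQ]))
    _ = (p ^ 2 - 1) * p := mul_comm _ _

/-- A piece of higher dimension. -/
theorem index_large {M : Subgroup X} (hM : M.Normal) (hZ : zC C ≤ M) (hMF : M ≤ fitC C)
    (hmin : ∀ N : Subgroup X, N.Normal → zC C ≤ N → N ≤ M → N = zC C ∨ N = M) {p a : ℕ}
    [hp : Fact p.Prime] (hel : ∀ x ∈ M, x ^ p ∈ zC C) (ha : 2 ≤ a)
    (hidx : (zC C).relIndex M = p ^ (2 * a)) (hpiece : PieceOrd p a) :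
    (kerMod C M).index ≤ phi (p ^ a) := by
  haveI := hM
  haveI := h.normal
  haveI := zC_normal C
  letI iQ : CommGroup (M ⧸ (zC C).subgroupOf M) :=
    { (inferInstance : Group (M ⧸ (zC C).subgroupOf M)) with
      mul_comm := fun q r => by
        obtain ⟨q, rfl⟩ := QuotientGroup.mk_surjective q
        obtain ⟨r, rfl⟩ := QuotientGroup.mk_surjective r
        rw [← QuotientGroup.mk_mul, ← QuotientGroup.mk_mul, QuotientGroup.eq, mem_subgroupOf]
        have hz := h.commutator_fitC (r : X)⁻¹ (inv_mem (hMF r.2)) (q : X)⁻¹ (inv_mem (hMF q.2))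
        simpa [commutatorElement_def, mul_assoc] using hz }
  refine (index_kerMod_le (C := C) (M := M)).trans ?_
  refine le_trans ?_ (card_range_le_phi h.solvable (layerAct (C := C) M) (fun q => ?_) (by omega) hidx
    (fun U hU => ?_) hpiece)
  · exact card_le_of_le fun x hx => by
      obtain ⟨g, rfl⟩ := hx
      exact ⟨_, rfl⟩
  · obtain ⟨q, rfl⟩ := QuotientGroup.mk_surjective q
    rw [← QuotientGroup.mk_pow, QuotientGroup.eq_one_iff, mem_subgroupOf]
    exact hel q q.2
  let T : Subgroup X := (U.comap (QuotientGroup.mk' ((zC C).subgroupOf M))).map M.subtype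
  have hT : T.Normal := ⟨by
    rintro x ⟨y, hy, rfl⟩ g
    exact ⟨MulAut.conjNormal g y, hU g _ hy, MulAut.conjNormal_apply g y⟩⟩
  have hzT : zC C ≤ T := fun z hz => ⟨⟨z, hZ hz⟩, by
    show QuotientGroup.mk' _ _ ∈ U
    rw [show QuotientGroup.mk' ((zC C).subgroupOf M) ⟨z, hZ hz⟩ = 1 from
      (QuotientGroup.eq_one_iff _).2 (mem_subgroupOf.2 hz)]
    exact one_mem U, rfl⟩
  rcases hmin T hT hzT (Subgroup.map_subtype_le _) with hT' | hT'
  · refine Or.inl (eq_bot_iff.2 fun q hq => ?_)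
    obtain ⟨y, rfl⟩ := QuotientGroup.mk_surjective q
    have hyT : (y : X) ∈ T := ⟨y, hq, rfl⟩
    exact Subgroup.mem_bot.2 ((QuotientGroup.eq_one_iff y).2 (mem_subgroupOf.2 (hT' ▸ hyT)))
  · refine Or.inr (eq_top_iff.2 fun q _ => ?_)
    obtain ⟨y, rfl⟩ := QuotientGroup.mk_surjective q
    obtain ⟨y', hy', e⟩ := (hT'.symm ▸ y.2 : (y : X) ∈ T)
    obtain rfl := Subtype.ext e
    exact hy'

/-- A minimal piece is elementary modulo the scalars. -/
theorem exponent_piece {M : Subgroup X} (hM : M.Normal) (hZ : zC C ≤ M) (hMF : M ≤ fitC C)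
    (hmin : ∀ N : Subgroup X, N.Normal → zC C ≤ N → N ≤ M → N = zC C ∨ N = M) {p : ℕ}
    (hp : p.Prime) (hpm : p ∣ (zC C).relIndex M) : ∀ x ∈ M, x ^ p ∈ zC C := by
  haveI := hM
  haveI := h.normal
  haveI := zC_normal C
  haveI := Fact.mk hp
  let T : Subgroup X :=
    { carrier := {x | x ∈ M ∧ x ^ p ∈ zC C}
      one_mem' := ⟨one_mem M, by rw [one_pow]; exact one_mem _⟩
      mul_mem' := fun {x y} hx hy => ⟨mul_mem hx.1 hy.1, by
        haveI : ((zC C).subgroupOf M).Normal := normal_subgroupOf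
        let π := QuotientGroup.mk' ((zC C).subgroupOf M)
        have hc : Commute (π ⟨x, hx.1⟩) (π ⟨y, hy.1⟩) := by
          show π _ * π _ = π _ * π _
          rw [← map_mul, ← map_mul, QuotientGroup.mk'_eq_mk']
          refine ⟨⟨⁅y⁻¹, x⁻¹⁆, hZ (h.commutator_fitC _ (inv_mem (hMF hy.1)) _
            (inv_mem (hMF hx.1)))⟩, mem_subgroupOf.2 (h.commutator_fitC _ (inv_mem (hMF hy.1)) _
            (inv_mem (hMF hx.1))), Subtype.ext ?_⟩
          show x * y * ⁅y⁻¹, x⁻¹⁆ = y * x
          simp only [commutatorElement_def]; group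
        have e : π (⟨x * y, mul_mem hx.1 hy.1⟩ ^ p) = 1 := by
          rw [map_pow, show (⟨x * y, mul_mem hx.1 hy.1⟩ : M) = ⟨x, hx.1⟩ * ⟨y, hy.1⟩ from rfl,
            map_mul, hc.mul_pow, ← map_pow, ← map_pow]
          rw [show π (⟨x, hx.1⟩ ^ p) = 1 from (QuotientGroup.eq_one_iff _).2 (mem_subgroupOf.2 hx.2),
            show π (⟨y, hy.1⟩ ^ p) = 1 from (QuotientGroup.eq_one_iff _).2 (mem_subgroupOf.2 hy.2),
            one_mul]
        exact mem_subgroupOf.1 ((QuotientGroup.eq_one_iff _).1 e)⟩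
      inv_mem' := fun {x} hx => ⟨inv_mem hx.1, by rw [inv_pow]; exact inv_mem hx.2⟩ }
  have hT : T.Normal := ⟨fun x hx g => ⟨hM.conj_mem x hx.1 g, by
    rw [conj_pow]; exact (zC_normal C).conj_mem _ hx.2 g⟩⟩
  have hTM : T = M := by
    refine (hmin T hT (fun z hz => ⟨hZ hz, pow_mem hz p⟩) fun x hx => hx.1).resolve_left fun e => ?_
    obtain ⟨q, hq⟩ := exists_prime_orderOf_dvd_card' (G := M ⧸ (zC C).subgroupOf M) p hpm
    obtain ⟨x, rfl⟩ := QuotientGroup.mk_surjective q
    have hxp : (x ^ p : M) ∈ (zC C).subgroupOf M := (QuotientGroup.eq_one_iff _).1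
      (by rw [QuotientGroup.mk_pow, ← hq, pow_orderOf_eq_one])
    have hxT : (x : X) ∈ T := ⟨x.2, mem_subgroupOf.1 hxp⟩
    rw [e] at hxT
    rw [(QuotientGroup.eq_one_iff x).2 (mem_subgroupOf.2 hxT), orderOf_one] at hq
    exact hp.ne_one hq.symm
  exact fun x hx => (hTM.symm ▸ hx : x ∈ T).2

/-- The group induced on a normal subgroup of the layer. -/
theorem index_kerMod : ∀ (c : ℕ) (M : Subgroup X) (_ : M.Normal), zC C ≤ M → M ≤ fitC C →
    Nat.card M = c → ∀ m, (zC C).relIndex M = m * m → PiecesOrdUpTo m →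
    (kerMod C M).index ≤ phi m := by
  intro c
  induction c using Nat.strong_induction_on with
  | _ c ih =>
  intro M hM hZ hMF hc m hm hpieces
  haveI := hM
  haveI := h.normal
  haveI := zC_normal C
  by_cases hMZ : M = zC C
  · subst hMZ
    have htop : kerMod C (zC C) = ⊤ := eq_top_iff.2 fun g _ => mem_subgroupOf.2 ⟨g.2, fun y hy => by
      rw [commutatorElement_eq_one_iff_commute.2 (commute_zC hy g.2)]; exact one_mem _⟩
    rw [htop, index_top]
    exact phi_pos m
  have hMne : ¬ M ≤ zC C := fun hle => hMZ (le_antisymm hle hZ)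
  by_cases hmin : ∀ N : Subgroup X, N.Normal → zC C ≤ N → N ≤ M → N = zC C ∨ N = M
  · -- a minimal piece
    have hm0 : 1 < m * m := by
      rw [← hm]
      have h0 := relIndex_ne_zero' (zC C) M
      have h1 : (zC C).relIndex M ≠ 1 := fun e => hMne (relIndex_eq_one.1 e)
      omega
    obtain ⟨p, hp, hpm⟩ := Nat.exists_prime_and_dvd (n := (zC C).relIndex M) (by omega)
    haveI := Fact.mk hp
    have hel : ∀ x ∈ M, x ^ p ∈ zC C := exponent_piece h hM hZ hMF hmin hp hpm
    have hQ : IsPGroup p (M ⧸ (zC C).subgroupOf M) := fun q => by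
      obtain ⟨x, rfl⟩ := QuotientGroup.mk_surjective q
      exact ⟨1, by rw [pow_one, ← QuotientGroup.mk_pow, QuotientGroup.eq_one_iff, mem_subgroupOf]; exact hel x x.2⟩
    obtain ⟨f, hf⟩ := IsPGroup.iff_card.1 hQ
    have hf' : (zC C).relIndex M = p ^ f := hf
    obtain ⟨a, -, rfl⟩ := (Nat.dvd_prime_pow hp).1 (hf' ▸ hm ▸ Dvd.intro m rfl : m ∣ p ^ f)
    have hfa : (zC C).relIndex M = p ^ (2 * a) := by rw [hm, ← pow_add, two_mul]
    rcases Nat.lt_or_ge a 2 with ha | ha
    · have ha1 : a = 1 := by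
        rcases a with _ | a
        · simp at hm0
        · omega
      subst ha1
      rw [pow_one]
      exact (index_two h hM hMF hfa).trans (prime_le_phi hp)
    · exact index_large h hM hZ hMF hmin hel ha hfa (hpieces p a hp ha le_rfl)
  push Not at hmin
  obtain ⟨N, hN, hZN, hNM, hNne, hNneM⟩ := hmin
  haveI := hN
  obtain ⟨hsup, hinf, hrel⟩ := h.complement hM hN hZN hNM hMF
  set N' := M ⊓ centralizer (N : Set X) with hN'
  haveI : N'.Normal := inferInstance
  have hZN' : zC C ≤ N' := hinf ▸ inf_le_right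
  have hN'M : N' ≤ M := inf_le_left
  have hN'ne : N' ≠ M := fun e => hNne (by rw [← hinf, e, inf_eq_left.2 hNM])
  have hltN : Nat.card N < c := hc ▸
    (lt_of_le_of_ne (card_le_of_le hNM) fun e => hNneM (eq_of_le_of_card_ge hNM e.ge))
  have hltN' : Nat.card N' < c := hc ▸
    (lt_of_le_of_ne (card_le_of_le hN'M) fun e => hN'ne (eq_of_le_of_card_ge hN'M e.ge))
  obtain ⟨m1, h11, hm1⟩ := h.exists_square hN hZN (hNM.trans hMF)
  obtain ⟨m2, h12, hm2⟩ := h.exists_square (inferInstance : N'.Normal) hZN' (hN'M.trans hMF)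
  have hmm : m = m1 * m2 := by
    have e := relIndex_mul_relIndex _ _ _ hZN' hN'M
    rw [hrel, hm1, hm2, hm] at e
    exact Nat.mul_self_inj.1 (e.symm.trans (by ring))
  subst hmm
  have b1 := ih _ hltN N hN hZN (hNM.trans hMF) rfl m1 hm1
    fun p a hp ha hpa => hpieces p a hp ha (hpa.trans (Nat.le_mul_of_pos_right m1 h12))
  have b2 := ih _ hltN' N' inferInstance hZN' (hN'M.trans hMF) rfl m2 hm2
    fun p a hp ha hpa => hpieces p a hp ha (hpa.trans (Nat.le_mul_of_pos_left m2 h11))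
  have hle : kerMod C N ⊓ kerMod C N' ≤ kerMod C M := by
    rintro g ⟨k1', k2'⟩
    have k1 := mem_subgroupOf.1 k1'
    have k2 := mem_subgroupOf.1 k2'
    refine mem_subgroupOf.2 ⟨g.2, fun y hy => ?_⟩
    obtain ⟨y1, hy1, y2, hy2, rfl⟩ := mem_sup_of_normal_right.1 (hsup.symm ▸ hy)
    rw [commutator_mul_right (C := C) (fitC_le C (hMF (hNM hy1))) (k2.2 y2 hy2)]
    exact mul_mem (k1.2 y1 hy1) (k2.2 y2 hy2)
  calc (kerMod C M).index ≤ (kerMod C N ⊓ kerMod C N').index :=
        Nat.le_of_dvd (Nat.pos_of_ne_zero index_ne_zero_of_finite) (index_dvd_of_le hle)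
    _ ≤ (kerMod C N).index * (kerMod C N').index := index_inf_le
    _ ≤ phi m1 * phi m2 := Nat.mul_le_mul b1 b2
    _ ≤ phi (m1 * m2) := phi_mul h11 h12

/-- The order of the quotient by the Fitting subgroup. -/
theorem index_fitting_le [FiniteDimensional k V] :
    ∃ m : ℕ, 1 ≤ m ∧ m ≤ Module.finrank k V ∧
      Nat.card (Cfsg.fittingSubgroup C) = Nat.card (zC C) * (m * m) ∧
      (∀ p : ℕ, p.Prime → p ∣ m → p ∣ Nat.card (zC C)) ∧
      (zC C).relIndex (fitC C) = m * m ∧
      (PiecesOrdUpTo m → (Cfsg.fittingSubgroup C).index ≤ phi m) := by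
  haveI := h.normal
  haveI := fitC_normal C
  obtain ⟨m, hm1, hm⟩ := h.exists_square (inferInstance : (fitC C).Normal) h.zC_le_fitC le_rfl
  refine ⟨m, hm1, ?_, ?_, fun p hp hd => h.prime_dvd_zC inferInstance h.zC_le_fitC le_rfl hp
    (hm ▸ Dvd.dvd.mul_right hd m), hm, fun hpieces => ?_⟩
  · exact Nat.mul_self_le_mul_self_iff.1 (hm ▸ h.relIndex_fitC_le)
  · rw [← card_map_of_injective (f := C.subtype) C.subtype_injective,
      ← hm, ← relIndex_bot_left, ← relIndex_bot_left]
    exact (relIndex_mul_relIndex _ _ _ bot_le h.zC_le_fitC).symm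
  · exact h.kerMod_fitC ▸ index_kerMod h _ (fitC C) inferInstance h.zC_le_fitC le_rfl rfl m hm hpieces

omit h

end CfsgLib.Class49
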