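import Cfsg.Agent.Lib.ClassBound.Linear
import Cfsg.Agent.Lib.Class49.PieceOrder
import Mathlib

/-!
# Orders of solvable irreducible linear groups

The field alternative of the Clifford step with order bounds, and `3 |X| ≤ |k| ^ (3 n)`.
-/

set_option autoImplicit false
set_option linter.style.haveILetI false
set_option maxHeartbeats 800000

namespace CfsgLib.Class49

open Subgroup CfsgLib.ClassBound
open scoped commutatorElement

/-- The data of a quasi-primitive solvable linear group: `C` acts over the extension of degree `e`. -/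
structure FieldData {X : Type} [Group X] {k : Type} [Field k] {V : Type} [AddCommGroup V] [Module k V]
    (ρ : X →* Module.End k V) where
  C : Subgroup X
  e : ℕ
  r : ℕ
  m : ℕ
  normal : C.Normal
  one_le_e : 1 ≤ e
  finrank : Module.finrank k V = e * r
  index_le : C.index ≤ e
  one_le_m : 1 ≤ m
  m_le : m ≤ r
  card_fitting : Nat.card (Cfsg.fittingSubgroup C) = Nat.card (zC C) * (m * m)
  relIndex_fit : (zC C).relIndex (fitC C) = m * m
  card_dvd : Nat.card (zC C) ∣ Nat.card k ^ e - 1
  prime_dvd : ∀ p : ℕ, p.Prime → p ∣ m → p ∣ Nat.card (zC C)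
  index_fit : PiecesOrdUpTo m → (Cfsg.fittingSubgroup C).index ≤ phi m
  comm_fit : ∀ x ∈ fitC C, ∀ y ∈ fitC C, ⁅x, y⁆ ∈ zC C
  kerMod_fit : kerMod C (fitC C) = Cfsg.fittingSubgroup C
  abelian_le : ∀ B : Subgroup X, B.Normal → B ≤ C → (∀ a ∈ B, ∀ b ∈ B, Commute a b) → B ≤ zC C
  zC_le_fit : zC C ≤ fitC C
  scalar : e = 1 → ∀ z ∈ zC C, ∃ c : k, ρ z = c • 1

/-- Without blocks there is a normal subgroup acting over an extension field. -/
theorem blocks_or_fieldData {X : Type} [Group X] [Finite X] {k : Type} [Field k] [Finite k] {V : Type}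
    [AddCommGroup V] [Module k V] [FiniteDimensional k V] (ρ : X →* Module.End k V)
    (hsol : Group.IsSolvable X) (hinj : Function.Injective ρ) (hirr : Irred ρ) :
    Nonempty (Blocks ρ) ∨ Nonempty (FieldData ρ) := by
  classical
  obtain ⟨A, hAn, hAc, hAmax⟩ := exists_maximal_abelian_normal X
  haveI := hAn
  rcases blocks_or_isField hirr A hAc with h | hfield
  · exact Or.inl h
  right
  haveI := hirr.1
  let R := algebraOf ρ A
  letI : Field R := hfield.toField
  haveI : Finite V := Module.finite_of_finite k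
  haveI : Finite (Module.End k V) := Finite.of_injective _ DFunLike.coe_injective
  haveI : Finite R := inferInstance
  haveI : Module.Finite k R := Module.Finite.of_finite
  haveI : Module.Finite R V := Module.Finite.of_finite
  set C := centralizer (A : Set X) with hC
  have hAC : A ≤ C := fun a ha => mem_centralizer_iff.2 fun b hb => (hAc b hb a ha).eq
  have hcommR : ∀ c ∈ C, ∀ x ∈ R, x * ρ c = ρ c * x := by
    intro c hc x hx
    have hle : R ≤ Subalgebra.centralizer k {ρ c} := Algebra.adjoin_le (by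
      rintro _ ⟨a, ha, rfl⟩
      rw [SetLike.mem_coe, Subalgebra.mem_centralizer_iff]
      intro z hz
      rw [Set.mem_singleton_iff.1 hz, ← map_mul, ← map_mul, mem_centralizer_iff.1 hc a ha])
    exact ((Subalgebra.mem_centralizer_iff k).1 (hle hx) _ rfl).symm
  let ρ' : C →* Module.End R V :=
    { toFun := fun c =>
        { toFun := ρ (c : X)
          map_add' := map_add _
          map_smul' := fun y v => by
            show ρ (c : X) ((y : Module.End k V) v) = (y : Module.End k V) (ρ (c : X) v)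
            rw [← Module.End.mul_apply, ← hcommR _ c.2 _ y.2, Module.End.mul_apply] }
      map_one' := LinearMap.ext fun v => by
        show ρ (1 : X) v = v
        rw [map_one, Module.End.one_apply]
      map_mul' := fun c d => LinearMap.ext fun v => by
        show ρ ((c : X) * d) v = ρ (c : X) (ρ (d : X) v)
        rw [map_mul, Module.End.mul_apply] }
  have hset : Setting C ρ' := by
    refine ⟨hsol, inferInstance, inferInstance, fun c d e => Subtype.ext (hinj (LinearMap.ext fun v =>
      LinearMap.congr_fun e v)), fun B hB hBC hBc b hb => ?_⟩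
    have hbA : (b : X) ∈ A := hAmax B hB hBc
      (fun a ha b' hb' => mem_centralizer_iff.1 (hBC hb') a ha) hb
    exact ⟨⟨ρ b, mem_algebraOf ρ hbA⟩, LinearMap.ext fun v => rfl⟩
  obtain ⟨m, hm1, hmr, hcard, hprime, hrel, hbound⟩ := index_fitting_le hset
  have hzA : zC C ≤ A := hAmax (zC C) (zC_normal C)
    (fun a ha b hb => commute_zC hb ha.1) (fun a ha b hb => commute_zC hb (hAC ha))
  have hRx : Nat.card R = Nat.card k ^ Module.finrank k R := Module.natCard_eq_pow_finrank
  have hzdvd : Nat.card (zC C) ∣ Nat.card k ^ Module.finrank k R - 1 := by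
    rw [← hRx, ← Nat.card_units]
    let f : zC C →* R :=
      { toFun := fun z => ⟨ρ (z : X), mem_algebraOf ρ (hzA z.2)⟩
        map_one' := Subtype.ext (map_one ρ)
        map_mul' := fun z w => Subtype.ext (map_mul ρ (z : X) w) }
    refine Subgroup.card_dvd_of_injective f.toHomUnits fun z w e => Subtype.ext (hinj ?_)
    exact congrArg Subtype.val (congrArg Units.val e)
  -- the action on the field
  let φ : X → R →ₐ[k] R := fun g =>
    ((conjAlg ρ g).comp R.val).codRestrict R fun y => conjAlg_mem ρ g y.2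
  have hφφ : ∀ g h y, φ g (φ h y) = φ (g * h) y := fun g h y =>
    Subtype.ext (conjAlg_conjAlg ρ g h _)
  have hφ1 : ∀ y, φ 1 y = y := fun y => Subtype.ext (conjAlg_one ρ _)
  let ψ : X →* (R ≃ₐ[k] R) :=
    { toFun := fun g => AlgEquiv.ofAlgHom (φ g) (φ g⁻¹)
        (AlgHom.ext fun y => (hφφ _ _ y).trans (by rw [mul_inv_cancel, hφ1]; rfl))
        (AlgHom.ext fun y => (hφφ _ _ y).trans (by rw [inv_mul_cancel, hφ1]; rfl))
      map_one' := AlgEquiv.ext fun y => hφ1 y
      map_mul' := fun g h => AlgEquiv.ext fun y => (hφφ g h y).symm }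
  have hker : ∀ g, ψ g = 1 → g ∈ C := fun g hg => mem_centralizer_iff.2 fun a ha => by
    have h1 : ρ g * ρ a * ρ g⁻¹ = ρ a :=
      congrArg Subtype.val (DFunLike.congr_fun hg (⟨ρ a, mem_algebraOf ρ ha⟩ : R))
    rw [← map_mul, ← map_mul] at h1
    calc a * g = g * a * g⁻¹ * g := by rw [hinj h1]
      _ = g * a := by group
  have hidx : C.index ≤ Module.finrank k R := by
    haveI : C.Normal := inferInstance
    have h1 : C.index ≤ Nat.card ψ.range := by
      rw [← index_ker]
      refine Nat.le_of_dvd (Nat.pos_of_ne_zero index_ne_zero_of_finite) (index_dvd_of_le fun g hg => ?_)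
      exact hker g (MonoidHom.mem_ker.1 hg)
    refine h1.trans ((card_le_card_group ψ.range).trans ?_)
    rw [Nat.card_eq_fintype_card]
    exact AlgEquiv.card_le
  refine ⟨{
    C := C, e := Module.finrank k R, r := Module.finrank R V, m := m
    normal := inferInstance, one_le_e := Module.finrank_pos
    finrank := (Module.finrank_mul_finrank k R V).symm, index_le := hidx
    one_le_m := hm1, m_le := hmr, card_fitting := hcard, relIndex_fit := hrel, card_dvd := hzdvd
    prime_dvd := hprime, index_fit := hbound, comm_fit := hset.commutator_fitC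
    kerMod_fit := hset.kerMod_fitC, abelian_le := fun B hB hBC hBc => hset.eq_zC_of_abelian hB hBC hBc
    zC_le_fit := hset.zC_le_fitC, scalar := fun he z hz => ?_ }⟩
  have hbot : R = ⊥ := Subalgebra.eq_bot_of_finrank_one he
  have hzR : ρ z ∈ (⊥ : Subalgebra k (Module.End k V)) := hbot ▸ mem_algebraOf ρ (hzA hz)
  obtain ⟨c, hc⟩ := Algebra.mem_bot.1 hzR
  exact ⟨c, hc.symm.trans (Algebra.algebraMap_eq_smul_one c)⟩

namespace FieldData

variable {X : Type} [Group X] [Finite X] {k : Type} [Field k] {V : Type} [AddCommGroup V] [Module k V]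
  {ρ : X →* Module.End k V}

theorem index_zC_le (D : FieldData ρ) (hp : PiecesOrdUpTo D.m) :
    (zC D.C).index ≤ D.e * (D.m * D.m) * phi D.m := by
  have h1 : (zC D.C).index * Nat.card (zC D.C) =
      D.C.index * ((Cfsg.fittingSubgroup D.C).index * (D.m * D.m)) * Nat.card (zC D.C) := by
    rw [index_mul_card, ← D.C.index_mul_card, ← (Cfsg.fittingSubgroup D.C).index_mul_card,
      D.card_fitting]
    ring
  rw [Nat.eq_of_mul_eq_mul_right Nat.card_pos h1]
  calc D.C.index * ((Cfsg.fittingSubgroup D.C).index * (D.m * D.m))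
      ≤ D.e * (phi D.m * (D.m * D.m)) :=
        Nat.mul_le_mul D.index_le (Nat.mul_le_mul_right _ (D.index_fit hp))
    _ = D.e * (D.m * D.m) * phi D.m := by ring

theorem C_eq_top (D : FieldData ρ) (he : D.e = 1) : D.C = ⊤ :=
  index_eq_one.1 (le_antisymm (he ▸ D.index_le) (Nat.pos_of_ne_zero index_ne_zero_of_finite))

end FieldData

/-- The order bound for irreducible solvable linear groups of dimension `n`. -/
def LinOrd (n : ℕ) : Prop :=
  ∀ (X : Type) [Group X] [Finite X] (k : Type) [Field k] [Finite k] (V : Type) [AddCommGroup V]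
    [Module k V] [FiniteDimensional k V] (ρ : X →* Module.End k V),
    Group.IsSolvable X → Function.Injective ρ → Irred ρ → Module.finrank k V = n →
      3 * Nat.card X ≤ Nat.card k ^ (3 * n)

/-- The action of a block group is bounded by the order bound in its dimension. -/
theorem card_le_blocks {X : Type} [Group X] [Finite X] {k : Type} [Field k] {V : Type} [AddCommGroup V]
    [Module k V] {ρ : X →* Module.End k V} (B : Blocks ρ) (hsol : Group.IsSolvable X)
    (hinj : Function.Injective ρ) {b : ℕ} (hb : ∀ i, Nat.card (B.stab i ⧸ (B.res i).ker) ≤ b) :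
    Nat.card X ≤ b ^ B.t * min (3 ^ (B.t - 1)) (Nat.factorial B.t) := by
  refine card_le_of_hom (QuotientGroup.mk' B.σ.ker) ?_
    (le_min ((permOrd B.t).of_quot hsol B.σ (Fintype.card_fin _))
      ((Nat.card_le_card_of_injective _ (QuotientGroup.kerLift_injective B.σ)).trans_eq
        (by rw [Nat.card_perm, Nat.card_fin])))
  rw [QuotientGroup.ker_mk']
  refine (card_le_of_jointly_injective (P := fun i => B.stab i ⧸ (B.res i).ker)
    (fun i => (QuotientGroup.mk' (B.res i).ker).comp (inclusion (B.ker_le_stab i)))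
    (fun g hg => B.jointly_injective hinj g fun i =>
      MonoidHom.mem_ker.1 ((QuotientGroup.eq_one_iff _).1 (hg i)))).trans ?_
  refine (Finset.prod_le_prod' fun i _ => hb i).trans_eq ?_
  rw [Finset.prod_const, Finset.card_univ, Fintype.card_fin]

theorem pow_eight_le {m : ℕ} (hm : 5 ≤ m) : m ^ 8 ≤ 3 ^ (3 * m - 2) := by
  induction m, hm using Nat.le_induction with
  | base => norm_num
  | succ m hm ih =>
    have h1 : (m + 1) ^ 8 * 5 ^ 8 ≤ m ^ 8 * 6 ^ 8 := by
      rw [← mul_pow, ← mul_pow]; exact Nat.pow_le_pow_left (by omega) 8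
    rw [show 3 * (m + 1) - 2 = (3 * m - 2) + 3 by omega, pow_add]
    have h2 : (6 : ℕ) ^ 8 ≤ 27 * 5 ^ 8 := by norm_num
    have h3 := Nat.mul_le_mul ih h2
    nlinarith

/-- The arithmetic of the field case. -/
theorem field_ord_arith {Q e r m : ℕ} (hQ : 2 ≤ Q) (he : 1 ≤ e) (hm : 1 ≤ m) (hmr : m ≤ r)
    (hp : ∀ p : ℕ, p.Prime → p ∣ m → p ∣ Q ^ e - 1) :
    3 * (e * (m * m) * phi m * (Q ^ e - 1)) ≤ Q ^ (3 * (e * r)) := by
  have hey : e ≤ Q ^ e := (Nat.lt_pow_self (by omega : 1 < Q)).le
  have hy2 : 2 ≤ Q ^ e := hQ.trans (Nat.le_self_pow (by omega) Q)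
  rw [show 3 * (e * r) = e * (3 * r) by ring, pow_mul]
  generalize hy : Q ^ e = y at *
  refine le_trans ?_ (Nat.pow_le_pow_right (by omega) (by omega : 3 * m ≤ 3 * r))
  rcases Nat.lt_or_ge m 2 with h2 | h2
  · obtain rfl : m = 1 := by omega
    rw [phi_of_le_one le_rfl, mul_one, mul_one, mul_one]
    have h4 : 3 * (y - 1) ≤ y * y := by
      rcases Nat.lt_or_ge y 3 with h | h
      · obtain rfl : y = 2 := by omega
        norm_num
      · exact (Nat.mul_le_mul_left 3 (Nat.sub_le y 1)).trans (Nat.mul_le_mul_right y h)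
    calc 3 * (e * (y - 1)) = e * (3 * (y - 1)) := by ring
      _ ≤ y * (y * y) := Nat.mul_le_mul hey h4
      _ = y ^ 3 := by ring
  have hy3 : 3 ≤ y := by
    obtain ⟨q, hq, hqm⟩ := Nat.exists_prime_and_dvd (n := m) (by omega)
    have := Nat.le_of_dvd (by omega) (hp q hq hqm)
    have := hq.two_le
    omega
  have key : 3 * ((m * m) * phi m) ≤ y ^ (3 * m - 2) := by
    refine le_trans ?_ (Nat.pow_le_pow_left hy3 _)
    rcases Nat.lt_or_ge m 5 with h5 | h5
    · interval_cases m <;> decide
    · calc 3 * ((m * m) * phi m) = (m * m) * (3 * phi m) := by ring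
        _ ≤ (m * m) * m ^ 6 := by gcongr; exact three_mul_phi_le h2
        _ = m ^ 8 := by ring
        _ ≤ 3 ^ (3 * m - 2) := pow_eight_le h5
  calc 3 * (e * (m * m) * phi m * (y - 1)) = (y - 1) * (e * (3 * ((m * m) * phi m))) := by ring
    _ ≤ y * (y * y ^ (3 * m - 2)) :=
        Nat.mul_le_mul (Nat.sub_le _ _) (Nat.mul_le_mul hey key)
    _ = y ^ (3 * m) := by rw [← pow_succ', ← pow_succ']; congr 1; omega

theorem card_le_of_card_space {X : Type} [Group X] {k : Type} [Field k] {V : Type} [AddCommGroup V]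
    [Module k V] [Finite V] (ρ : X →* Module.End k V) (hinj : Function.Injective ρ) :
    Nat.card X ≤ Nat.factorial (Nat.card V - 1) := by
  classical
  haveI := Fintype.ofFinite V
  let f : X → Equiv.Perm {v : V // v ≠ 0} := fun g =>
    { toFun := fun v => ⟨ρ g v, fun h0 => v.2 (by rw [← rep_inv_apply ρ g v, h0, map_zero])⟩
      invFun := fun v => ⟨ρ g⁻¹ v, fun h0 => v.2 (by rw [← rep_apply_inv ρ g v, h0, map_zero])⟩
      left_inv := fun v => Subtype.ext (rep_inv_apply ρ g v)
      right_inv := fun v => Subtype.ext (rep_apply_inv ρ g v) }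
  have hf : Function.Injective f := fun g g' e => hinj (LinearMap.ext fun v => by
    by_cases hv : v = 0
    · rw [hv, map_zero, map_zero]
    · exact congrArg (fun σ : Equiv.Perm {v : V // v ≠ 0} => ((σ ⟨v, hv⟩ : {v : V // v ≠ 0}) : V)) e)
  refine (Nat.card_le_card_of_injective f hf).trans_eq ?_
  rw [Nat.card_perm, Nat.card_eq_fintype_card, Fintype.card_subtype_compl, Fintype.card_subtype_eq,
    ← Nat.card_eq_fintype_card (α := V)]

/-- Dimension four over two elements. -/
theorem card_le_four_two {X : Type} [Group X] [Finite X] {k : Type} [Field k] [Finite k] {V : Type}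
    [AddCommGroup V] [Module k V] [FiniteDimensional k V] (ρ : X →* Module.End k V)
    (hsol : Group.IsSolvable X) (hinj : Function.Injective ρ) (hirr : Irred ρ) (hk : Nat.card k = 2)
    (hn : Module.finrank k V = 4) : Nat.card X ≤ 72 := by
  haveI : Finite V := Module.finite_of_finite k
  rcases blocks_or_fieldData ρ hsol hinj hirr with ⟨⟨B⟩⟩ | ⟨⟨D⟩⟩
  · have hi : Fin B.t := ⟨0, by have := B.two_le; omega⟩
    have hd := B.finrank_pos hi
    have hfr := B.finrank_eq hirr hi
    have h2t := B.two_le
    rw [hn] at hfr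
    have hW : ∀ i, Nat.card (B.W i) = 2 ^ Module.finrank k (B.W hi) := fun i => by
      rw [Module.natCard_eq_pow_finrank (K := k), hk, B.finrank_W_eq hirr i hi]
    have hle := card_le_blocks B hsol hinj (b := Nat.factorial (2 ^ Module.finrank k (B.W hi) - 1)) fun i => by
      rw [← hW i]
      exact card_le_of_card_space (quotRep (B.res i)) (quotRep_injective _)
    refine hle.trans ?_
    have ht4 : B.t ≤ 4 := by rw [hfr]; exact Nat.le_mul_of_pos_right _ hd
    have hd2 : Module.finrank k (B.W hi) ≤ 2 := by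
      have := Nat.mul_le_mul_right (Module.finrank k (B.W hi)) h2t
      omega
    clear hle hW
    generalize Module.finrank k (B.W hi) = d at *
    clear hi
    generalize B.t = t at *
    interval_cases d <;> interval_cases t <;> first | omega | decide
  have hfin := D.finrank
  rw [hn] at hfin
  have hm : D.m = 1 := by
    by_contra hne
    have := D.one_le_m
    obtain ⟨q, hq, hqm⟩ := Nat.exists_prime_and_dvd hne
    have h1 := (D.prime_dvd q hq hqm).trans D.card_dvd
    rw [hk] at h1
    have he := D.one_le_e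
    have hr : D.m ≤ D.r := D.m_le
    have he4 : D.e ≤ 4 := hfin ▸ Nat.le_mul_of_pos_right _ (by omega)
    have hr4 : D.r ≤ 4 := hfin ▸ Nat.le_mul_of_pos_left _ he
    have hq4 : q ≤ 4 := (Nat.le_of_dvd (by omega) hqm).trans (by omega)
    have hqr : q ≤ D.r := (Nat.le_of_dvd (by omega) hqm).trans hr
    have := hq.two_le
    interval_cases D.e <;> interval_cases q <;> omega
  have hidx := D.index_zC_le (fun p a hp ha hpa => by
    rw [hm] at hpa
    have := Nat.one_lt_pow (n := a) (by omega) hp.one_lt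
    omega)
  rw [hm, phi_of_le_one le_rfl, mul_one, mul_one, mul_one] at hidx
  have hz := D.card_dvd
  rw [hk] at hz
  have he := D.one_le_e
  have he4 : D.e ≤ 4 := hfin ▸ Nat.le_mul_of_pos_right _ (by have := D.one_le_m; have := D.m_le; omega)
  have hzl := Nat.le_of_dvd (Nat.sub_pos_of_lt (Nat.one_lt_pow (by omega) (by norm_num))) hz
  rw [← (zC D.C).card_mul_index]
  refine (Nat.mul_le_mul hzl hidx).trans ?_
  interval_cases D.e <;> norm_num

theorem two_mul_lt_pow {p a : ℕ} (hp : 2 ≤ p) (ha : 2 ≤ a) (h : ¬ (p = 2 ∧ a = 2)) : 2 * a < p ^ a := by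
  rcases Nat.lt_or_ge p 3 with h3 | h3
  · obtain rfl : p = 2 := by omega
    have ha3 : 3 ≤ a := by omega
    clear h h3 ha
    induction a, ha3 using Nat.le_induction with
    | base => norm_num
    | succ a ha ih => rw [pow_succ]; omega
  · refine lt_of_lt_of_le ?_ (Nat.pow_le_pow_left h3 a)
    clear h h3
    induction a, ha using Nat.le_induction with
    | base => norm_num
    | succ a ha ih => rw [pow_succ]; omega

theorem pieceOrd_of_linOrd {p a : ℕ} [hp : Fact p.Prime] (ha : 2 ≤ a)
    (h : ¬ (p = 2 ∧ a = 2) → LinOrd (2 * a)) : PieceOrd p a := by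
  intro X _ _ W _ _ _ σ hsol hinj hirr hn
  by_cases h22 : p = 2 ∧ a = 2
  · obtain ⟨rfl, rfl⟩ := h22
    exact (card_le_four_two σ hsol hinj hirr (Nat.card_zmod 2) hn).trans_eq (by decide)
  have h1 := h h22 X (ZMod p) W σ hsol hinj hirr hn
  rw [Nat.card_zmod] at h1
  have h8 : 8 ≤ p ^ a := by
    rcases Nat.lt_or_ge p 3 with h3 | h3
    · obtain rfl : p = 2 := by have := hp.out.two_le; omega
      have := two_mul_lt_pow le_rfl ha h22
      have : 3 ≤ a := by omega
      exact (Nat.pow_le_pow_right (by norm_num) this).trans_eq' (by norm_num)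
    · exact le_trans (by norm_num : 8 ≤ 3 ^ 2)
        ((Nat.pow_le_pow_left h3 2).trans (Nat.pow_le_pow_right (by omega) ha))
  rw [phi_of_ge h8, Nat.le_div_iff_mul_le (by norm_num), ← pow_mul]
  calc Nat.card X * 3 ≤ p ^ (3 * (2 * a)) := by rw [mul_comm]; exact h1
    _ = p ^ (a * 6) := by ring_nf

/-- Solvable irreducible linear groups over finite fields. -/
theorem linOrd : ∀ n, LinOrd n := by
  intro n
  induction n using Nat.strong_induction_on with
  | _ n ih =>
  intro X _ _ k _ _ V _ _ _ ρ hsol hinj hirr hn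
  haveI := hirr.1
  haveI := hsol
  have hQ : 2 ≤ Nat.card k := Finite.one_lt_card
  rcases blocks_or_fieldData ρ hsol hinj hirr with ⟨⟨B⟩⟩ | ⟨⟨D⟩⟩
  · have hi : Fin B.t := ⟨0, by have := B.two_le; omega⟩
    have hd := B.finrank_pos hi
    have hfr := B.finrank_eq hirr hi
    have hlt : Module.finrank k (B.W hi) < n := by
      rw [← hn, hfr]
      exact lt_mul_left hd B.two_le
    have hIH := fun i => ih _ hlt (B.stab i ⧸ (B.res i).ker) k (B.W i) (quotRep (B.res i)) inferInstance
      (quotRep_injective _) (B.irred_res hirr i).quotRep (B.finrank_W_eq hirr i hi)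
    have ht : B.t - 1 + 1 = B.t := by have := B.two_le; omega
    refine (Nat.mul_le_mul_left 3 (card_le_blocks B hsol hinj
      (b := Nat.card k ^ (3 * Module.finrank k (B.W hi)) / 3) fun i =>
        (Nat.le_div_iff_mul_le (by norm_num)).2 (by rw [mul_comm]; exact hIH i))).trans ?_
    refine le_trans (Nat.mul_le_mul_left 3 (Nat.mul_le_mul_left _ (min_le_left _ _))) ?_
    generalize hc : Nat.card k ^ (3 * Module.finrank k (B.W hi)) = c
    calc 3 * ((c / 3) ^ B.t * 3 ^ (B.t - 1)) = (3 * (c / 3)) ^ B.t := by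
          rw [mul_pow, ← mul_assoc, mul_comm 3, mul_assoc, ← pow_succ', ht, mul_comm]
      _ ≤ c ^ B.t := Nat.pow_le_pow_left (Nat.mul_div_le c 3) _
      _ = Nat.card k ^ (3 * n) := by rw [← hn, hfr, ← hc, ← pow_mul]; ring_nf
  have hfin := D.finrank
  rw [hn] at hfin
  have her : D.m ≤ n := hfin ▸ D.m_le.trans (Nat.le_mul_of_pos_left _ D.one_le_e)
  have hidx := D.index_zC_le fun p a hp ha hpa => @pieceOrd_of_linOrd p a ⟨hp⟩ ha fun h22 =>
    ih _ (lt_of_lt_of_le (two_mul_lt_pow hp.two_le ha h22) (hpa.trans her))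
  have hzl := Nat.le_of_dvd
    (Nat.sub_pos_of_lt (Nat.one_lt_pow (by have := D.one_le_e; omega) (by omega))) D.card_dvd
  rw [← (zC D.C).card_mul_index, hfin]
  refine le_trans (Nat.mul_le_mul_left 3 ((Nat.mul_le_mul hzl hidx).trans_eq (mul_comm _ _))) ?_
  exact field_ord_arith hQ D.one_le_e D.one_le_m D.m_le fun q hq hd => (D.prime_dvd q hq hd).trans D.card_dvd

/-- The piece bounds hold unconditionally. -/
theorem piecesOrdUpTo (m : ℕ) : PiecesOrdUpTo m := fun p a hp ha _ =>
  @pieceOrd_of_linOrd p a ⟨hp⟩ ha fun _ => linOrd _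

end CfsgLib.Class49
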