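import Cfsg.Agent.Lib.ClassBound.Blocks
import Mathlib

/-!
# Orbits of a linear group on nonzero vectors

`orbNum ρ` is the number of orbits on nonzero vectors; for a group with blocks it grows at least linearly
in the number of blocks.
-/

set_option autoImplicit false
set_option linter.style.haveILetI false

namespace CfsgLib.Class49

open Subgroup CfsgLib.ClassBound

variable {X : Type} [Group X] {k : Type} [Field k] {V : Type} [AddCommGroup V] [Module k V]

/-- The orbit relation on nonzero vectors. -/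
def orbSetoid (ρ : X →* Module.End k V) : Setoid {v : V // v ≠ 0} where
  r v w := ∃ g : X, ρ g v = (w : V)
  iseqv :=
    { refl := fun v => ⟨1, by rw [map_one, Module.End.one_apply]⟩
      symm := fun {v w} ⟨g, hg⟩ => ⟨g⁻¹, by rw [← hg, rep_inv_apply]⟩
      trans := fun {u v w} ⟨g, hg⟩ ⟨g', hg'⟩ => ⟨g' * g, by rw [map_mul, Module.End.mul_apply, hg, hg']⟩ }

/-- The number of orbits on nonzero vectors. -/
noncomputable def orbNum (ρ : X →* Module.End k V) : ℕ := Nat.card (Quotient (orbSetoid ρ))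

variable (ρ : X →* Module.End k V)

theorem card_le_orbNum_mul [Finite X] [Finite V] : Nat.card V - 1 ≤ orbNum ρ * Nat.card X := by
  classical
  haveI := Fintype.ofFinite V
  rw [orbNum, ← Nat.card_prod, Nat.card_eq_fintype_card (α := V), ← Fintype.card_subtype_eq (0 : V),
    ← Fintype.card_subtype_compl, ← Nat.card_eq_fintype_card]
  refine Nat.card_le_card_of_surjective (fun p : Quotient (orbSetoid ρ) × X =>
    (⟨ρ p.2 p.1.out, fun h0 => p.1.out.2 (by rw [← rep_inv_apply ρ p.2 (p.1.out : V), h0, map_zero])⟩ :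
      {v : V // v ≠ 0})) fun v => ?_
  obtain ⟨g, hg⟩ := Quotient.mk_out (s := orbSetoid ρ) v
  exact ⟨(⟦v⟧, g), Subtype.ext hg⟩

theorem one_le_orbNum [Finite V] [Nontrivial V] : 1 ≤ orbNum ρ := by
  obtain ⟨v, hv⟩ := exists_ne (0 : V)
  haveI : Nonempty (Quotient (orbSetoid ρ)) := ⟨⟦⟨v, hv⟩⟧⟩
  exact Nat.card_pos

/-- Values of an invariant function give orbits. -/
theorem card_le_orbNum [Finite V] {α β : Type} (F : {v : V // v ≠ 0} → β)
    (hF : ∀ v w, (∃ g, ρ g v.1 = w.1) → F v = F w) (w : α → {v : V // v ≠ 0})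
    (hw : Function.Injective fun a => F (w a)) : Nat.card α ≤ orbNum ρ :=
  Nat.card_le_card_of_injective (fun a => (⟦w a⟧ : Quotient (orbSetoid ρ))) fun a b e =>
    hw (hF _ _ (Quotient.exact e))

/-- The pairs of labels used for vectors with larger support. -/
theorem two_mul_card_lt (x : ℕ) : x * (x - 1) = 2 * Nat.card {q : Fin x × Fin x // q.1 < q.2} := by
  classical
  have e : {q : Fin x × Fin x // q.1 ≠ q.2} ≃
      {q : Fin x × Fin x // q.1 < q.2} ⊕ {q : Fin x × Fin x // q.1 < q.2} :=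
    { toFun := fun q => if h : q.1.1 < q.1.2 then Sum.inl ⟨q.1, h⟩ else
        Sum.inr ⟨(q.1.2, q.1.1), lt_of_le_of_ne (not_lt.1 h) q.2.symm⟩
      invFun := Sum.elim (fun q => ⟨q.1, q.2.ne⟩) (fun q => ⟨(q.1.2, q.1.1), q.2.ne'⟩)
      left_inv := fun q => by
        by_cases h : q.1.1 < q.1.2 <;> simp [h]
      right_inv := fun q => by
        rcases q with q | q
        · simp [q.2]
        · simp [q.2.le.not_gt] }
  have h1 : Nat.card {q : Fin x × Fin x // q.1 ≠ q.2} = x * (x - 1) := by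
    rw [Nat.card_eq_fintype_card, Fintype.card_subtype_compl, Fintype.card_prod, Fintype.card_fin,
      Fintype.card_congr (⟨fun q => q.1.1, fun i => ⟨(i, i), rfl⟩,
        fun q => Subtype.ext (Prod.ext rfl q.2), fun i => rfl⟩ :
          {q : Fin x × Fin x // q.1 = q.2} ≃ Fin x), Fintype.card_fin, Nat.mul_sub, mul_one]
  rw [← h1, Nat.card_congr e, Nat.card_sum, two_mul]

section Blocks

variable {ρ} (B : Blocks ρ)

theorem e_apply_rep (g : X) (i : Fin B.t) (v : V) : B.e (B.σ g i) (ρ g v) = ρ g (B.e i v) := by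
  rw [← Module.End.mul_apply, ← B.conj, Module.End.mul_apply]

/-- With blocks, the orbits of the group include those of the block group in every support size. -/
theorem orbNum_blocks [Finite V] (hirr : Irred ρ) (i₀ : Fin B.t) :
    B.t * orbNum (quotRep (B.res i₀)) ≤ orbNum ρ ∧
      (2 ≤ orbNum (quotRep (B.res i₀)) → 5 * (B.t * orbNum (quotRep (B.res i₀))) ≤ 4 * orbNum ρ) := by
  classical
  choose γ hγ using B.transitive hirr i₀
  haveI : Finite (B.W i₀) := inferInstance
  haveI : Finite (Quotient (orbSetoid (quotRep (B.res i₀)))) := Quotient.finite _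
  set x := orbNum (quotRep (B.res i₀)) with hx
  let σx : Quotient (orbSetoid (quotRep (B.res i₀))) ≃ Fin x := Finite.equivFin _
  -- the label of a nonzero component
  let lab : ∀ i : Fin B.t, ∀ v : V, B.e i v ≠ 0 → Fin x := fun i v hv =>
    σx ⟦⟨⟨ρ (γ i)⁻¹ (B.e i v), by
      have h := B.apply_mem (γ i)⁻¹ (i := i) (v := B.e i v) ⟨v, rfl⟩
      rwa [show B.σ (γ i)⁻¹ i = i₀ by rw [map_inv, Equiv.Perm.inv_eq_iff_eq, hγ]] at h⟩,
      fun h0 => hv (by
        have := congrArg (fun w : B.W i₀ => ρ (γ i) (w : V)) h0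
        simpa [rep_apply_inv] using this)⟩⟧
  have hlab : ∀ (g : X) (i : Fin B.t) (v : V) (hv : B.e i v ≠ 0) (hv' : B.e (B.σ g i) (ρ g v) ≠ 0),
      lab (B.σ g i) (ρ g v) hv' = lab i v hv := by
    intro g i v hv hv'
    refine (congrArg σx (Quotient.sound ?_)).symm
    have hs : (γ (B.σ g i))⁻¹ * g * γ i ∈ B.stab i₀ := by
      show B.σ ((γ (B.σ g i))⁻¹ * g * γ i) i₀ = i₀
      rw [map_mul, map_mul, Equiv.Perm.mul_apply, Equiv.Perm.mul_apply, hγ, map_inv,
        Equiv.Perm.inv_eq_iff_eq, hγ]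
    refine ⟨((⟨_, hs⟩ : B.stab i₀) : B.stab i₀ ⧸ (B.res i₀).ker), ?_⟩
    rw [quotRep_mk]
    apply Subtype.ext
    show ρ ((γ (B.σ g i))⁻¹ * g * γ i) (ρ (γ i)⁻¹ (B.e i v)) = ρ (γ (B.σ g i))⁻¹ (B.e (B.σ g i) (ρ g v))
    rw [e_apply_rep, map_mul, map_mul, Module.End.mul_apply, Module.End.mul_apply, rep_apply_inv]
  -- the invariant
  let supp : V → Finset (Fin B.t) := fun v => Finset.univ.filter fun i => B.e i v ≠ 0
  have hsupp : ∀ v i, i ∈ supp v ↔ B.e i v ≠ 0 := fun v i => by simp [supp]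
  let labs : V → Finset (Fin x) := fun v => (supp v).attach.image fun i =>
    lab i.1 v ((hsupp v i.1).1 i.2)
  let F : {v : V // v ≠ 0} → ℕ × Finset (Fin x) := fun v => ((supp v.1).card, labs v.1)
  have hne : ∀ (g : X) (i : Fin B.t) (v : V), B.e (B.σ g i) (ρ g v) ≠ 0 ↔ B.e i v ≠ 0 := by
    intro g i v
    rw [e_apply_rep]
    refine not_congr ⟨fun h => ?_, fun h => by rw [h, map_zero]⟩
    rw [← rep_inv_apply ρ g (B.e i v), h, map_zero]
  have hF : ∀ v w : {v : V // v ≠ 0}, (∃ g, ρ g v.1 = w.1) → F v = F w := by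
    rintro ⟨v, hv⟩ ⟨w, hw⟩ ⟨g, rfl⟩
    refine Prod.ext ?_ ?_
    · show (supp v).card = (supp (ρ g v)).card
      exact Finset.card_equiv (B.σ g) fun i => by rw [hsupp, hsupp, hne g i v]
    · show labs v = labs (ρ g v)
      ext a
      simp only [labs, Finset.mem_image, Finset.mem_attach, true_and, Subtype.exists]
      constructor
      · rintro ⟨i, hi, rfl⟩
        exact ⟨B.σ g i, by rw [hsupp, hne g i v]; exact (hsupp v i).1 hi, hlab g i v _ _⟩
      · rintro ⟨j, hj, rfl⟩
        obtain ⟨i, rfl⟩ := (B.σ g).surjective j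
        exact ⟨i, by rw [hsupp, ← hne g i v]; exact (hsupp _ _).1 hj, (hlab g i v _ _).symm⟩
  -- vectors with prescribed support and labels
  have hvec : ∀ (s : Finset (Fin B.t)) (f : Fin B.t → Fin x),
      ∃ v : V, supp v = s ∧ labs v = s.image f := by
    intro s f
    let c : Fin B.t → V := fun i => ρ (γ i) ((σx.symm (f i)).out.1 : V)
    have hc : ∀ i, c i ∈ B.W i := fun i => by
      have h := B.apply_mem (γ i) (σx.symm (f i)).out.1.2
      rwa [hγ] at h
    have hc0 : ∀ i, c i ≠ 0 := fun i h0 => (σx.symm (f i)).out.2 (Subtype.ext (by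
      rw [← rep_inv_apply ρ (γ i) ((σx.symm (f i)).out.1 : V)]
      show ρ (γ i)⁻¹ (c i) = _
      rw [h0, map_zero]; rfl))
    refine ⟨∑ i ∈ s, c i, ?_⟩
    have he : ∀ j, B.e j (∑ i ∈ s, c i) = if j ∈ s then c j else 0 := by
      intro j
      rw [map_sum, ← Finset.sum_ite_eq s j c]
      refine Finset.sum_congr rfl fun i _ => ?_
      by_cases h : j = i
      · subst h; rw [if_pos rfl, B.e_apply_self (hc j)]
      · rw [if_neg h, B.e_apply_ne h (hc i)]
    have hs : supp (∑ i ∈ s, c i) = s := Finset.ext fun j => by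
      simp only [supp, Finset.mem_filter, Finset.mem_univ, true_and, he]
      by_cases h : j ∈ s <;> simp [h, hc0]
    have hl : ∀ j ∈ s, ∀ hj, lab j (∑ i ∈ s, c i) hj = f j := by
      intro j hj hj0
      refine (σx.eq_symm_apply).1 ?_
      refine (Quotient.out_eq (σx.symm (f j))).symm.trans (Quotient.sound ?_) |>.symm
      refine ⟨1, ?_⟩
      rw [map_one, Module.End.one_apply]
      apply Subtype.ext
      show ((σx.symm (f j)).out.1 : V) = ρ (γ j)⁻¹ (B.e j (∑ i ∈ s, c i))
      rw [he, if_pos hj, rep_inv_apply]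
    refine ⟨hs, Finset.ext fun a => ?_⟩
    simp only [labs, Finset.mem_image, Finset.mem_attach, true_and, Subtype.exists]
    constructor
    · rintro ⟨j, hj, rfl⟩
      exact ⟨j, hs ▸ hj, (hl j (hs ▸ hj) _).symm⟩
    · rintro ⟨j, hj, rfl⟩
      exact ⟨j, hs.symm ▸ hj, hl j hj _⟩
  -- the witnesses
  let α : Type := (Fin B.t × Fin x) ⊕ (Fin (B.t - 1) × {q : Fin x × Fin x // q.1 < q.2})
  let key : α → ℕ × Finset (Fin x) := Sum.elim (fun a => (a.1.1 + 1, {a.2}))
    (fun a => (a.1.1 + 2, {a.2.1.1, a.2.1.2}))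
  have hkey : Function.Injective key := by
    rintro (⟨j, a⟩ | ⟨j, ⟨⟨a, b⟩, hab⟩⟩) (⟨j', a'⟩ | ⟨j', ⟨⟨a', b'⟩, hab'⟩⟩) h <;>
      simp only [key, Sum.elim_inl, Sum.elim_inr, Prod.mk.injEq] at h
    · obtain ⟨h1, h2⟩ := h
      rw [Finset.singleton_inj] at h2
      subst h2
      rw [Fin.ext (Nat.add_right_cancel h1)]
    · have := congrArg Finset.card h.2
      rw [Finset.card_singleton, Finset.card_pair hab'.ne] at this
      omega
    · have := congrArg Finset.card h.2
      rw [Finset.card_singleton, Finset.card_pair hab.ne] at this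
      omega
    · obtain ⟨h1, h2⟩ := h
      obtain rfl : j = j' := Fin.ext (Nat.add_right_cancel h1)
      have ha : a = a' ∨ a = b' := by
        simpa using (h2 ▸ Finset.mem_insert_self a {b} : a ∈ ({a', b'} : Finset (Fin x)))
      have hb : b = a' ∨ b = b' := by
        simpa using (h2 ▸ (Finset.mem_insert_of_mem (Finset.mem_singleton_self b)) :
          b ∈ ({a', b'} : Finset (Fin x)))
      have ha' : a' = a ∨ a' = b := by
        simpa using (h2.symm ▸ Finset.mem_insert_self a' {b'} : a' ∈ ({a, b} : Finset (Fin x)))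
      obtain ⟨rfl, rfl⟩ : a = a' ∧ b = b' := by
        simp only [Fin.ext_iff, Fin.lt_def] at ha hb ha' hab hab' ⊢
        omega
      rfl
  have hex : ∀ a : α, ∃ v : {v : V // v ≠ 0}, F v = key a := by
    intro a
    obtain ⟨s, f, hcard, himg, hspos⟩ : ∃ (s : Finset (Fin B.t)) (f : Fin B.t → Fin x),
        s.card = (key a).1 ∧ s.image f = (key a).2 ∧ s.Nonempty := by
      rcases a with ⟨j, a⟩ | ⟨j, ⟨⟨a, b⟩, hab⟩⟩
      · refine ⟨Finset.Iic j, fun _ => a, by simp [key], ?_, ⟨j, Finset.mem_Iic.2 le_rfl⟩⟩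
        show (Finset.Iic j).image (fun _ => a) = {a}
        exact Finset.image_const ⟨j, Finset.mem_Iic.2 le_rfl⟩ a
      · have hj := j.2
        let z : Fin B.t := ⟨0, by have := B.two_le; omega⟩
        let l : Fin B.t := ⟨j.1 + 1, by omega⟩
        refine ⟨Finset.Iic l, fun i => if i = z then a else b, by simp [key, l], ?_,
          ⟨l, Finset.mem_Iic.2 le_rfl⟩⟩
        show (Finset.Iic l).image (fun i => if i = z then a else b) = {a, b}
        ext c
        simp only [Finset.mem_image, Finset.mem_Iic, Finset.mem_insert, Finset.mem_singleton]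
        constructor
        · rintro ⟨i, -, rfl⟩
          split_ifs <;> simp
        · rintro (rfl | rfl)
          · exact ⟨z, Fin.le_def.2 (Nat.zero_le _), if_pos rfl⟩
          · exact ⟨l, le_rfl, if_neg (fun e => by simpa [l, z] using congrArg Fin.val e)⟩
    obtain ⟨v, hv1, hv2⟩ := hvec s f
    refine ⟨⟨v, fun h0 => ?_⟩, Prod.ext ((congrArg Finset.card hv1).trans hcard) (hv2.trans himg)⟩
    obtain ⟨i, hi⟩ := hspos
    rw [← hv1] at hi
    exact (hsupp v i).1 hi (by rw [h0, map_zero])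
  choose w hw using hex
  have hle := card_le_orbNum ρ F hF w (fun a b e => hkey (by rw [← hw, ← hw]; exact e))
  rw [Nat.card_sum, Nat.card_prod, Nat.card_prod, Nat.card_fin, Nat.card_fin, Nat.card_fin] at hle
  refine ⟨(Nat.le_add_right _ _).trans hle, fun h2 => ?_⟩
  have hq := two_mul_card_lt x
  generalize Nat.card {q : Fin x × Fin x // q.1 < q.2} = Q at hq hle
  obtain ⟨y, hy⟩ : ∃ y, x = y + 2 := ⟨x - 2, by omega⟩
  obtain ⟨u, hu⟩ : ∃ u, B.t = u + 2 := ⟨B.t - 2, by have := B.two_le; omega⟩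
  rw [hy, show y + 2 - 1 = y + 1 by omega] at hq
  rw [hy, hu, show u + 2 - 1 = u + 1 by omega] at hle
  rw [hy, hu]
  have h3 : (u + 2) * (y + 2) ≤ 4 * ((u + 1) * Q) := by
    calc (u + 2) * (y + 2) ≤ ((u + 1) * (2 * (y + 1))) * (y + 2) :=
          Nat.mul_le_mul_right _ (by
            have : u + 1 ≤ (u + 1) * (y + 1) := Nat.le_mul_of_pos_right _ (by omega)
            rw [show (u + 1) * (2 * (y + 1)) = 2 * ((u + 1) * (y + 1)) by ring]
            omega)
      _ = (u + 1) * (2 * ((y + 2) * (y + 1))) := by ring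
      _ = 4 * ((u + 1) * Q) := by rw [hq]; ring
  omega

end Blocks

end CfsgLib.Class49
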