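import Cfsg.Agent.Lib.Class49.ClassLower
import Cfsg.Agent.Lib.Class49.Orbits
import Cfsg.Agent.Lib.Class49.LinOrder
import Mathlib

/-!
# The invariant for quasi-primitive solvable groups

For a solvable irreducible group over the prime field, either an abelian subgroup has small index, or
`5 k x ≥ p ^ 2`, or the extremal configuration of degree two occurs (`k` classes, `x` orbits).
-/

set_option autoImplicit false
set_option linter.style.haveILetI false
set_option maxHeartbeats 800000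

namespace CfsgLib.Class49

open Subgroup CfsgLib.ClassBound
open scoped commutatorElement

/-- The invariant of the induction. -/
def Inv {X : Type} [Group X] {p : ℕ} [Fact p.Prime] {V : Type} [AddCommGroup V] [Module (ZMod p) V]
    (ρ : X →* Module.End (ZMod p) V) : Prop :=
  (∃ A : Subgroup X, (∀ a ∈ A, ∀ b ∈ A, Commute a b) ∧
    ((Module.finrank (ZMod p) V = 1 ∧ A.index = 1) ∨
      (2 ≤ Module.finrank (ZMod p) V ∧
        (49 * A.index) ^ 2 * p ^ 2 ≤ 119 ^ 2 * p ^ Module.finrank (ZMod p) V))) ∨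
  p ^ 2 ≤ 5 * (Nat.card (ConjClasses X) * orbNum ρ) ∨
  (p ^ 2 - 1 ≤ 6 * (Nat.card (ConjClasses X) * orbNum ρ) ∧
    49 * p ≤ 60 * (Nat.card (ConjClasses X) + orbNum ρ) ∧ (orbNum ρ = 1 → p ≤ 23))

theorem dim_sq_le {p : ℕ} (hp : 11 ≤ p) {d : ℕ} (hd : 2 ≤ d) :
    (49 * d) ^ 2 * p ^ 2 ≤ 119 ^ 2 * p ^ d := by
  induction d, hd using Nat.le_induction with
  | base => exact Nat.mul_le_mul_right _ (by norm_num)
  | succ d hd ih =>
    calc (49 * (d + 1)) ^ 2 * p ^ 2 ≤ 11 * (49 * d) ^ 2 * p ^ 2 := Nat.mul_le_mul_right _ (by nlinarith)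
      _ = 11 * ((49 * d) ^ 2 * p ^ 2) := mul_assoc _ _ _
      _ ≤ p * (119 ^ 2 * p ^ d) := Nat.mul_le_mul hp ih
      _ = 119 ^ 2 * p ^ (d + 1) := by ring

theorem pow_eight_le_pow {p : ℕ} (hp : 11 ≤ p) {N : ℕ} (hN : 8 ≤ N) : N ^ 8 * p ^ 2 ≤ 12 * p ^ N := by
  induction N, hN using Nat.le_induction with
  | base =>
    calc 8 ^ 8 * p ^ 2 ≤ 12 * 11 ^ 6 * p ^ 2 := Nat.mul_le_mul_right _ (by norm_num)
      _ ≤ 12 * p ^ 6 * p ^ 2 := by gcongr
      _ = 12 * p ^ 8 := by ring
  | succ N hN ih =>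
    have h1 : (N + 1) ^ 8 * 8 ^ 8 ≤ N ^ 8 * 9 ^ 8 := by
      rw [← mul_pow, ← mul_pow]; exact Nat.pow_le_pow_left (by omega) 8
    have h2 : (N + 1) ^ 8 ≤ 11 * N ^ 8 := by
      have : (9 : ℕ) ^ 8 ≤ 11 * 8 ^ 8 := by norm_num
      refine Nat.le_of_mul_le_mul_right ?_ (by norm_num : 0 < 8 ^ 8)
      calc (N + 1) ^ 8 * 8 ^ 8 ≤ N ^ 8 * 9 ^ 8 := h1
        _ ≤ N ^ 8 * (11 * 8 ^ 8) := Nat.mul_le_mul_left _ this
        _ = 11 * N ^ 8 * 8 ^ 8 := by ring
    calc (N + 1) ^ 8 * p ^ 2 ≤ 11 * N ^ 8 * p ^ 2 := Nat.mul_le_mul_right _ h2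
      _ = 11 * (N ^ 8 * p ^ 2) := mul_assoc _ _ _
      _ ≤ p * (12 * p ^ N) := Nat.mul_le_mul hp ih
      _ = 12 * p ^ (N + 1) := by ring

theorem sq_le_four_pow {j : ℕ} : (j + 2) ^ 2 ≤ 4 * 11 ^ j := by
  induction j with
  | zero => norm_num
  | succ j ih =>
    calc (j + 1 + 2) ^ 2 ≤ 11 * (j + 2) ^ 2 := by nlinarith [Nat.zero_le (j * j), Nat.zero_le j]
      _ ≤ 11 * (4 * 11 ^ j) := Nat.mul_le_mul_left 11 ih
      _ = 4 * 11 ^ (j + 1) := by ring

/-- The arithmetic of the quasi-primitive case away from three small configurations. -/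
theorem generic_arith {p e m d : ℕ} (hp : 11 ≤ p) (he : 1 ≤ e) (hm : 2 ≤ m) (hd : e * m ≤ d)
    (hex : ¬ (e = 1 ∧ d = m ∧ (m = 2 ∨ m = 3 ∨ (m = 4 ∧ p < 17)))) :
    e * (e * (m * m) * phi m) * p ^ 2 ≤ 5 * (p ^ d - 1) := by
  have hd2 : 2 ≤ d := le_trans (le_trans hm (Nat.le_mul_of_pos_left m he)) hd
  have hpd : 11 ≤ p ^ d := hp.trans (Nat.le_self_pow (by omega) p)
  suffices h : e * (e * (m * m) * phi m) * p ^ 2 ≤ 4 * p ^ d by omega
  rcases Nat.lt_or_ge m 8 with h8 | h8
  · have hc : (m * m) * phi m ≤ 4 * 11 ^ (2 * m - 2) ∧ (m * m) * phi m ≤ 11 ^ (2 * m - 2) := by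
      interval_cases m <;> decide
    rcases Nat.lt_or_ge e 2 with he2 | he2
    · obtain rfl : e = 1 := by omega
      simp only [one_mul, true_and] at hd hex ⊢
      have hpow : ∀ j, j ≤ d - 2 → 11 ^ j ≤ p ^ (d - 2) := fun j hj =>
        (Nat.pow_le_pow_left hp j).trans (Nat.pow_le_pow_right (by omega) hj)
      have key : (m * m) * phi m ≤ 4 * p ^ (d - 2) := by
        interval_cases m
        · exact le_trans (by decide : 2 * 2 * phi 2 ≤ 4 * 11 ^ 1) (Nat.mul_le_mul_left 4 (hpow 1 (by omega)))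
        · exact le_trans (by decide : 3 * 3 * phi 3 ≤ 4 * 11 ^ 2) (Nat.mul_le_mul_left 4 (hpow 2 (by omega)))
        · rcases Nat.lt_or_ge 4 d with h5 | h5
          · exact le_trans (by decide : 4 * 4 * phi 4 ≤ 4 * 11 ^ 3) (Nat.mul_le_mul_left 4 (hpow 3 (by omega)))
          · obtain rfl : d = 4 := by omega
            exact le_trans (by decide : 4 * 4 * phi 4 ≤ 4 * 17 ^ 2)
              (Nat.mul_le_mul_left 4 (Nat.pow_le_pow_left (by omega) 2))
        · exact le_trans (by decide : 5 * 5 * phi 5 ≤ 4 * 11 ^ 3) (Nat.mul_le_mul_left 4 (hpow 3 (by omega)))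
        · exact le_trans (by decide : 6 * 6 * phi 6 ≤ 4 * 11 ^ 4) (Nat.mul_le_mul_left 4 (hpow 4 (by omega)))
        · exact le_trans (by decide : 7 * 7 * phi 7 ≤ 4 * 11 ^ 5) (Nat.mul_le_mul_left 4 (hpow 5 (by omega)))
      calc (m * m) * phi m * p ^ 2 ≤ 4 * p ^ (d - 2) * p ^ 2 := Nat.mul_le_mul_right _ key
        _ = 4 * p ^ d := by rw [mul_assoc, ← pow_add, Nat.sub_add_cancel hd2]
    · obtain ⟨j, rfl⟩ : ∃ j, e = j + 2 := ⟨e - 2, by omega⟩
      have h1 := sq_le_four_pow (j := j)
      have h2 : 2 * m - 2 + j + 2 ≤ d := by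
        have : (j + 2) * m = j * m + 2 * m := add_mul _ _ _
        have : j ≤ j * m := Nat.le_mul_of_pos_right j (by omega)
        omega
      calc (j + 2) * ((j + 2) * (m * m) * phi m) * p ^ 2 = (j + 2) ^ 2 * ((m * m) * phi m) * p ^ 2 := by
            ring
        _ ≤ 4 * 11 ^ j * 11 ^ (2 * m - 2) * p ^ 2 := by gcongr; exact hc.2
        _ ≤ 4 * p ^ j * p ^ (2 * m - 2) * p ^ 2 := by gcongr
        _ = 4 * p ^ (2 * m - 2 + j + 2) := by ring
        _ ≤ 4 * p ^ d := Nat.mul_le_mul_left 4 (Nat.pow_le_pow_right (by omega) h2)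
  · have h1 := three_mul_phi_le hm
    have h2 : 3 * (e * (e * (m * m) * phi m)) ≤ (e * m) ^ 8 := by
      calc 3 * (e * (e * (m * m) * phi m)) = e ^ 2 * (m * m) * (3 * phi m) := by ring
        _ ≤ e ^ 8 * (m * m) * m ^ 6 :=
            Nat.mul_le_mul (Nat.mul_le_mul_right _ (Nat.pow_le_pow_right he (by norm_num))) h1
        _ = (e * m) ^ 8 := by ring
    have h3 := pow_eight_le_pow hp (h8.trans (Nat.le_mul_of_pos_left m he))
    have h4 : p ^ (e * m) ≤ p ^ d := Nat.pow_le_pow_right (by omega) hd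
    have h5 := Nat.mul_le_mul_right (p ^ 2) h2
    rw [mul_assoc] at h5
    omega

/-- The extremal inequality in degree two. -/
theorem critical_arith {p b : ℕ} (hp : 11 ≤ p) (hb : b ≠ 9 ∨ 25 ≤ p) :
    98 * p * b ≤ 480 * (p - 1) + 5 * b ^ 2 * (p + 1) := by
  obtain ⟨q, rfl⟩ : ∃ q, p = q + 1 := ⟨p - 1, by omega⟩
  rw [Nat.add_sub_cancel]
  rcases Nat.lt_or_ge b 10 with h | h
  · interval_cases b <;> omega
  · obtain ⟨c, rfl⟩ : ∃ c, b = 10 + c := ⟨b - 10, by omega⟩
    nlinarith [Nat.zero_le (c * c * q), Nat.zero_le (c * q), Nat.zero_le (c * c)]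

theorem card_linearEquiv_prime {U : Type*} [AddCommGroup U] {l : ℕ} [Fact l.Prime]
    [Module (ZMod l) U] [Finite U] {n : ℕ} (hU : Nat.card U = l ^ n) :
    Nat.card (U ≃ₗ[ZMod l] U) = ∏ i : Fin n, (l ^ n - l ^ (i : ℕ)) := by
  classical
  haveI : Module.Finite (ZMod l) U := Module.Finite.of_finite
  have hfr : Module.finrank (ZMod l) U = n := by
    have h := Module.natCard_eq_pow_finrank (K := ZMod l) (V := U)
    rw [hU, Nat.card_zmod] at h
    exact Nat.pow_right_injective (Fact.out : l.Prime).two_le h.symm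
  let b := Module.finBasisOfFinrankEq (ZMod l) U hfr
  rw [Nat.card_congr
      ((LinearMap.GeneralLinearGroup.generalLinearEquiv (ZMod l) U).symm.trans
        (Units.mapEquiv (LinearMap.toMatrixAlgEquiv b).toMulEquiv)).toEquiv, Matrix.card_GL_field,
    ZMod.card]

theorem card_mulAut_prime {W : Type*} [CommGroup W] [Finite W] {l : ℕ} [Fact l.Prime] {n : ℕ}
    (hW : Nat.card W = l ^ n) (hl : ∀ w : W, w ^ l = 1) :
    Nat.card (MulAut W) = ∏ i : Fin n, (l ^ n - l ^ (i : ℕ)) := by
  letI iM := AddCommGroup.zmodModule (n := l) (G := Additive W) fun w =>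
    Additive.toMul.injective (hl (Additive.toMul w))
  refine (Nat.card_congr ?_).trans (@card_linearEquiv_prime (Additive W) _ l _ iM _ n
    ((Nat.card_congr Additive.toMul).trans hW))
  exact
    { toFun := fun f => (MulEquiv.toAdditive f).toLinearEquiv fun c x =>
        ZMod.map_smul (MulEquiv.toAdditive f).toAddMonoidHom c x
      invFun := fun f => MulEquiv.toAdditive.symm f.toAddEquiv
      left_inv := fun f => MulEquiv.ext fun _ => rfl
      right_inv := fun f => LinearEquiv.ext fun _ => rfl }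

theorem classes_quotient_lt {X : Type} [Group X] [Finite X] (Z F : Subgroup X) [Z.Normal] [F.Normal]
    (hZF : Z ≤ F) (hne : ¬ F ≤ Z) :
    Nat.card (ConjClasses (X ⧸ F)) + 1 ≤ Nat.card (ConjClasses (X ⧸ Z)) := by
  haveI := Fintype.ofFinite (ConjClasses (X ⧸ F))
  haveI := Fintype.ofFinite (ConjClasses (X ⧸ Z))
  obtain ⟨x, hxF, hxZ⟩ := SetLike.not_le_iff_exists.1 hne
  let f : X ⧸ Z →* X ⧸ F := QuotientGroup.map Z F (MonoidHom.id X) hZF
  have hf : Function.Surjective f := fun q => by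
    obtain ⟨y, rfl⟩ := QuotientGroup.mk_surjective q
    exact ⟨(y : X ⧸ Z), rfl⟩
  rw [Nat.card_eq_fintype_card, Nat.card_eq_fintype_card, Nat.succ_le_iff]
  refine Fintype.card_lt_of_surjective_not_injective (ConjClasses.map f) (ConjClasses.map_surjective hf)
    fun hinj => hxZ ?_
  have h1 : ConjClasses.map f (ConjClasses.mk (x : X ⧸ Z)) = ConjClasses.map f (ConjClasses.mk 1) := by
    show ConjClasses.mk (x : X ⧸ F) = ConjClasses.mk (f 1)
    rw [map_one, (QuotientGroup.eq_one_iff x).2 hxF]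
  exact (QuotientGroup.eq_one_iff x).1 ((isConj_one_left).1 (ConjClasses.mk_eq_mk_iff_isConj.1 (hinj h1)))

theorem prime_le_classes {G : Type*} [Group G] [Finite G] (h : (Nat.card G).Prime) :
    Nat.card G ≤ Nat.card (ConjClasses G) := by
  haveI := Fact.mk h
  haveI : IsCyclic G := isCyclic_of_prime_card rfl
  have h' := card_abelian_le (⊤ : Subgroup G) fun a _ b _ =>
    (IsMulCommutative.is_comm.comm a b : _)
  simpa using h'

section Central

variable {X : Type} [Group X] [Finite X] {p : ℕ} [Fact p.Prime] {V : Type} [AddCommGroup V]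
  [Module (ZMod p) V] [Finite V] {ρ : X →* Module.End (ZMod p) V} {Z : Subgroup X}

theorem card_translations_le (hinj : Function.Injective ρ)
    (hsc : ∀ z ∈ Z, ∃ c : ZMod p, ρ z = c • 1) (hd : 0 < Module.finrank (ZMod p) V) (h : X) :
    Nat.card {z : Z // IsConj (h * (z : X)) h} ≤ Module.finrank (ZMod p) V := by
  classical
  haveI : FiniteDimensional (ZMod p) V := Module.Finite.of_finite
  haveI : Nontrivial V := Module.nontrivial_of_finrank_pos hd
  choose c hc using hsc
  set d := Module.finrank (ZMod p) V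
  have hroot : ∀ z : {z : Z // IsConj (h * (z : X)) h}, c _ z.1.2 ∈ (Polynomial.nthRoots d (1 : ZMod p)).toFinset := by
    intro z
    rw [Multiset.mem_toFinset, Polynomial.mem_nthRoots hd]
    obtain ⟨g, hg⟩ := isConj_iff.1 z.2
    have h1 := congrArg (fun y => LinearMap.det (ρ y)) hg
    simp only [map_mul] at h1
    rw [hc _ z.1.2, LinearMap.det_smul, map_one, mul_one] at h1
    have h2 : LinearMap.det (ρ g) * LinearMap.det (ρ g⁻¹) = 1 := by rw [← map_mul, rep_mul_inv, map_one]
    have h3 : LinearMap.det (ρ h) ≠ 0 := fun h0 => by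
      have := congrArg LinearMap.det (rep_mul_inv ρ h)
      rw [map_mul, h0, zero_mul, map_one] at this
      exact zero_ne_one this
    apply mul_left_cancel₀ h3
    linear_combination h1 - LinearMap.det (ρ h) * (c _ z.1.2) ^ d * h2
  refine le_trans ?_ ((Multiset.toFinset_card_le _).trans (Polynomial.card_nthRoots d (1 : ZMod p)))
  rw [← Fintype.card_coe, ← Nat.card_eq_fintype_card]
  exact Nat.card_le_card_of_injective (fun z => ⟨_, hroot z⟩) fun z w e => Subtype.ext (Subtype.ext (hinj (by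
    rw [hc _ z.1.2, hc _ w.1.2]; exact congrArg (fun t : ZMod p => t • (1 : Module.End (ZMod p) V))
      (congrArg Subtype.val e))))

theorem classes_ge [Z.Normal] (hinj : Function.Injective ρ) (hZ : Z ≤ center X)
    (hsc : ∀ z ∈ Z, ∃ c : ZMod p, ρ z = c • 1) (hd : 0 < Module.finrank (ZMod p) V) :
    Nat.card Z * (Module.finrank (ZMod p) V + Nat.card (ConjClasses (X ⧸ Z))) ≤
      Module.finrank (ZMod p) V * Nat.card (ConjClasses X) + Nat.card Z := by
  classical
  haveI := Fintype.ofFinite (ConjClasses (X ⧸ Z))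
  set d := Module.finrank (ZMod p) V
  rw [classes_eq_sum Z, Finset.mul_sum, mul_add, Nat.card_eq_fintype_card (α := ConjClasses (X ⧸ Z)),
    ← Finset.card_univ, ← Finset.sum_erase_add Finset.univ _ (Finset.mem_univ (ConjClasses.mk (1 : X ⧸ Z))),
    ← Finset.card_erase_add_one (Finset.mem_univ (ConjClasses.mk (1 : X ⧸ Z)))]
  have hone : Nat.card Z ≤ 1 * Nat.card {c : ConjClasses X //
      ConjClasses.map (QuotientGroup.mk' Z) c = ConjClasses.mk ((1 : X) : X ⧸ Z)} := by
    refine card_le_fibre Z 1 1 ?_ hZ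
    rw [Finite.card_le_one_iff_subsingleton]
    exact ⟨fun z w => Subtype.ext (Subtype.ext (by
      have h1 := isConj_one_left.1 z.2
      have h2 := isConj_one_left.1 w.2
      rw [one_mul] at h1 h2
      rw [h1, h2]))⟩
  have hrest : ∀ b : ConjClasses (X ⧸ Z), Nat.card Z ≤ d * Nat.card {c : ConjClasses X //
      ConjClasses.map (QuotientGroup.mk' Z) c = b} := by
    intro b
    obtain ⟨q, rfl⟩ := ConjClasses.mk_surjective b
    obtain ⟨h, rfl⟩ := QuotientGroup.mk_surjective q
    exact card_le_fibre Z h d (card_translations_le hinj hsc hd h) hZ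
  have hsum := Finset.card_nsmul_le_sum (Finset.univ.erase (ConjClasses.mk (1 : X ⧸ Z))) _ (Nat.card Z)
    fun b _ => hrest b
  rw [smul_eq_mul] at hsum
  rw [one_mul, QuotientGroup.mk_one] at hone
  have h2 := Nat.mul_le_mul_left d hone
  nlinarith

/-- Only the trivial scalar fixes the class of an element whose square is not scalar. -/
theorem translations_trivial (hinj : Function.Injective ρ) (hsc : ∀ z ∈ Z, ∃ c : ZMod p, ρ z = c • 1)
    (hd : Module.finrank (ZMod p) V = 2) (hp : p ≠ 2) {h : X} (hh : ∀ c : ZMod p, ρ (h * h) ≠ c • 1) :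
    Nat.card {z : Z // IsConj (h * (z : X)) h} ≤ 1 := by
  classical
  haveI : FiniteDimensional (ZMod p) V := Module.Finite.of_finite
  haveI : Nontrivial V := Module.nontrivial_of_finrank_pos (R := ZMod p) (by omega)
  have key : ∀ z : {z : Z // IsConj (h * (z : X)) h}, (z.1 : X) = 1 := by
    intro z
    obtain ⟨c, hc⟩ := hsc _ z.1.2
    obtain ⟨g, hg⟩ := isConj_iff.1 z.2
    let b := Module.finBasisOfFinrankEq (ZMod p) V hd
    set M : X → Matrix (Fin 2) (Fin 2) (ZMod p) := fun y => LinearMap.toMatrixAlgEquiv b (ρ y) with hM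
    have hMmul : ∀ x y, M (x * y) = M x * M y := fun x y => by simp [hM]
    have hMz : M (z.1 : X) = c • 1 := by simp [hM, hc]
    have h1 : M g * (M h * (c • 1)) * M g⁻¹ = M h := by
      rw [← hMz, ← hMmul, ← hMmul, ← hMmul, hg]
    rw [mul_smul_comm, mul_one, mul_smul_comm, smul_mul_assoc] at h1
    have hgg : M g⁻¹ * M g = 1 := by rw [← hMmul]; simp [hM]
    have htr : c * (M h).trace = (M h).trace := by
      conv_rhs => rw [← h1]
      rw [Matrix.trace_smul, Matrix.trace_mul_cycle, hgg, one_mul, smul_eq_mul]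
    have hne : (M h).trace ≠ 0 := fun h0 => by
      refine hh (-(M h).det) ((LinearMap.toMatrixAlgEquiv b).injective ?_)
      show M (h * h) = _
      rw [hMmul, map_smul, map_one]
      have htr' : M h 0 0 + M h 1 1 = 0 := by rwa [Matrix.trace_fin_two] at h0
      ext i j
      rw [Matrix.mul_apply, Fin.sum_univ_two, Matrix.smul_apply, Matrix.det_fin_two, smul_eq_mul]
      fin_cases i <;> fin_cases j <;> simp
      · linear_combination (M h 0 0) * htr'
      · linear_combination (M h 0 1) * htr'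
      · linear_combination (M h 1 0) * htr'
      · linear_combination (M h 1 1) * htr'
    have hc1 : c = 1 := mul_right_cancel₀ hne (htr.trans (one_mul _).symm)
    exact hinj (by rw [hc, hc1, one_smul, map_one])
  rw [Finite.card_le_one_iff_subsingleton]
  exact ⟨fun z w => Subtype.ext (Subtype.ext ((key z).trans (key w).symm))⟩

end Central

section Field

variable {X : Type} [Group X] [Finite X] {p : ℕ} [Fact p.Prime] {V : Type} [AddCommGroup V]
  [Module (ZMod p) V] [Finite V] {ρ : X →* Module.End (ZMod p) V}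

theorem orb_count (hd : 0 < Module.finrank (ZMod p) V) :
    p ^ Module.finrank (ZMod p) V - 1 ≤ orbNum ρ * Nat.card X := by
  haveI : FiniteDimensional (ZMod p) V := Module.Finite.of_finite
  have h := card_le_orbNum_mul ρ
  rwa [Module.natCard_eq_pow_finrank (K := ZMod p), Nat.card_zmod] at h

/-- The central part, the Fitting subgroup and the two quotients in the case `e = 1`. -/
structure Layer (ρ : X →* Module.End (ZMod p) V) (m : ℕ) where
  Z : Subgroup X
  F : Subgroup X
  zNormal : Z.Normal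
  fNormal : F.Normal
  le_center : Z ≤ center X
  scalar : ∀ z ∈ Z, ∃ c : ZMod p, ρ z = c • 1
  mem_of_scalar : ∀ (x : X) (c : ZMod p), ρ x = c • 1 → x ∈ Z
  le : Z ≤ F
  relIndex : Z.relIndex F = m * m
  index_le : F.index ≤ phi m
  comm : ∀ x ∈ F, ∀ y ∈ F, ⁅x, y⁆ ∈ Z
  ker : ∀ x : X, (∀ y ∈ F, ⁅x, y⁆ ∈ Z) → x ∈ F
  abelian_le : ∀ B : Subgroup X, B.Normal → (∀ a ∈ B, ∀ b ∈ B, Commute a b) → B ≤ Z
  card_dvd : Nat.card Z ∣ p - 1
  prime_dvd : ∀ q : ℕ, q.Prime → q ∣ m → q ∣ Nat.card Z

theorem exists_layer (hinj : Function.Injective ρ) (D : FieldData ρ) (he : D.e = 1) :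
    Nonempty (Layer ρ D.m) := by
  haveI := D.normal
  have hC := D.C_eq_top he
  refine ⟨{
    Z := zC D.C, F := fitC D.C, zNormal := zC_normal D.C, fNormal := fitC_normal D.C
    le_center := fun z hz => mem_center_iff.2 fun x => (commute_zC hz (by rw [hC]; exact mem_top x)).eq
    scalar := D.scalar he
    mem_of_scalar := fun x c hx => ⟨by rw [hC]; exact mem_top x, mem_centralizer_iff.2 fun y _ => hinj (by
      rw [map_mul, map_mul, hx, mul_smul_comm, mul_one, smul_mul_assoc, one_mul])⟩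
    le := D.zC_le_fit, relIndex := D.relIndex_fit, index_le := ?_
    comm := D.comm_fit
    ker := fun x hx => ?_
    abelian_le := fun B hB hBc => D.abelian_le B hB (by rw [hC]; exact le_top) hBc
    card_dvd := by simpa [he, Nat.card_zmod] using D.card_dvd
    prime_dvd := D.prime_dvd }⟩
  · have h := D.index_fit (piecesOrdUpTo _)
    have e : (fitC D.C).index = (Cfsg.fittingSubgroup D.C).index := by
      rw [fitC, index_map_subtype, hC, index_top, mul_one]
    omega
  · have hxC : x ∈ D.C := by rw [hC]; exact mem_top x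
    have h1 : (⟨x, hxC⟩ : D.C) ∈ Cfsg.fittingSubgroup D.C := by
      rw [← D.kerMod_fit]
      exact mem_subgroupOf.2 ⟨hxC, hx⟩
    exact ⟨_, h1, rfl⟩

namespace Layer

variable {m : ℕ} (L : Layer ρ m)

theorem card_eq : Nat.card X = Nat.card L.Z * (m * m * L.F.index) := by
  rw [← L.Z.card_mul_index, ← relIndex_mul_index L.le, L.relIndex]

theorem not_le (hm : 2 ≤ m) : ¬ L.F ≤ L.Z := fun h => by
  have h1 := relIndex_eq_one.2 h
  rw [L.relIndex] at h1
  nlinarith

theorem classes_bound (hinj : Function.Injective ρ) (hm : 2 ≤ m) (hd : 0 < Module.finrank (ZMod p) V)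
    {κ : ℕ} (hκ : haveI := L.fNormal; κ ≤ Nat.card (ConjClasses (X ⧸ L.F)) + 1) :
    Nat.card L.Z * (Module.finrank (ZMod p) V + κ - 1) ≤
      Module.finrank (ZMod p) V * Nat.card (ConjClasses X) := by
  haveI := L.zNormal
  haveI := L.fNormal
  have h1 := classes_quotient_lt L.Z L.F L.le (L.not_le hm)
  have h2 := classes_ge hinj L.le_center L.scalar hd
  have h3 : Nat.card L.Z * (Module.finrank (ZMod p) V + κ - 1 + 1) ≤
      Nat.card L.Z * (Module.finrank (ZMod p) V + Nat.card (ConjClasses (X ⧸ L.Z))) :=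
    Nat.mul_le_mul_left _ (by omega)
  rw [mul_add_one] at h3
  omega

/-- The automorphisms of the layer bound the index of the Fitting subgroup by divisibility. -/
theorem index_dvd {l : ℕ} [Fact l.Prime] (hml : m = l) :
    L.F.index ∣ (l ^ 2 - 1) * (l ^ 2 - l) := by
  subst hml
  haveI := L.zNormal
  haveI := L.fNormal
  haveI : (L.Z.subgroupOf L.F).Normal := normal_subgroupOf
  set N := L.Z.subgroupOf L.F
  have hcard : Nat.card (L.F ⧸ N) = m ^ 2 := by rw [sq]; exact L.relIndex
  letI : CommGroup (L.F ⧸ N) :=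
    { (inferInstance : Group (L.F ⧸ N)) with
      mul_comm := fun q r => by
        obtain ⟨q, rfl⟩ := QuotientGroup.mk_surjective q
        obtain ⟨r, rfl⟩ := QuotientGroup.mk_surjective r
        rw [← QuotientGroup.mk_mul, ← QuotientGroup.mk_mul, QuotientGroup.eq, mem_subgroupOf]
        have hz := L.comm (r : X)⁻¹ (inv_mem r.2) (q : X)⁻¹ (inv_mem q.2)
        simpa [commutatorElement_def, mul_assoc] using hz }
  have hexp : ∀ q : L.F ⧸ N, q ^ m = 1 := by
    intro q
    by_contra hq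
    obtain ⟨j, hj, e⟩ := (Nat.dvd_prime_pow (Fact.out : m.Prime)).1 (hcard ▸ orderOf_dvd_natCard q)
    have hq2 : orderOf q = m ^ 2 := by
      interval_cases j
      · exact absurd (by rw [orderOf_eq_one_iff.1 (e.trans (pow_zero m)), one_pow]) hq
      · rw [pow_one] at e
        exact absurd (orderOf_dvd_iff_pow_eq_one.1 (dvd_of_eq e)) hq
      · exact e
    haveI : IsCyclic (L.F ⧸ N) := isCyclic_of_orderOf_eq_card q (hq2.trans hcard.symm)
    obtain ⟨u, hu⟩ := IsCyclic.exists_generator (α := L.F ⧸ N)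
    obtain ⟨w, rfl⟩ := QuotientGroup.mk_surjective u
    refine L.not_le (Fact.out : m.Prime).two_le (L.abelian_le L.F L.fNormal fun a ha b hb => ?_)
    obtain ⟨i, hi⟩ := Subgroup.mem_zpowers_iff.1 (hu ((⟨a, ha⟩ : L.F) : L.F ⧸ N))
    obtain ⟨i', hi'⟩ := Subgroup.mem_zpowers_iff.1 (hu ((⟨b, hb⟩ : L.F) : L.F ⧸ N))
    rw [← QuotientGroup.mk_zpow, QuotientGroup.eq, mem_subgroupOf] at hi hi'
    have ea : a = (w : X) ^ i * (((w : X) ^ i)⁻¹ * a) := by group
    have eb : b = (w : X) ^ i' * (((w : X) ^ i')⁻¹ * b) := by group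
    have c1 : ∀ y : X, ∀ z ∈ L.Z, Commute y z := fun y z hz => (mem_center_iff.1 (L.le_center hz) y : _)
    rw [ea, eb]
    exact (((Commute.refl (w : X)).zpow_zpow i i').mul_right (c1 _ _ (by simpa using hi'))).mul_left
      ((c1 _ _ (by simpa using hi)).symm)
  let act : X →* MulAut (L.F ⧸ N) :=
    MonoidHom.mk' (fun g => QuotientGroup.congr N N (MulAut.conjNormal g) (by
        ext y
        refine (Subgroup.mem_map_equiv (f := MulAut.conjNormal g)).trans ?_
        rw [mem_subgroupOf, mem_subgroupOf, MulAut.conjNormal_symm_apply]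
        refine ⟨fun hy => ?_, fun hy => by simpa using L.zNormal.conj_mem _ hy g⁻¹⟩
        have h5 := L.zNormal.conj_mem _ hy g
        simpa [mul_assoc] using h5))
      fun g g' => MulEquiv.ext fun q => by
        obtain ⟨y, rfl⟩ := QuotientGroup.mk_surjective q
        show ((MulAut.conjNormal (g * g') y : L.F) : L.F ⧸ N) =
          ((MulAut.conjNormal g (MulAut.conjNormal g' y) : L.F) : L.F ⧸ N)
        rw [map_mul, MulAut.mul_apply]
  have hker : act.ker = L.F := by
    ext g
    rw [MonoidHom.mem_ker]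
    constructor
    · intro hg
      refine L.ker g fun y hy => ?_
      have h3 : ((MulAut.conjNormal g (⟨y, hy⟩ : L.F) : L.F) : L.F ⧸ N) = ((⟨y, hy⟩ : L.F) : L.F ⧸ N) :=
        DFunLike.congr_fun hg ((⟨y, hy⟩ : L.F) : L.F ⧸ N)
      have h4 := L.zNormal.conj_mem _ (mem_subgroupOf.1 (QuotientGroup.eq.1 h3.symm)) y
      simpa [commutatorElement_def, MulAut.conjNormal_apply, mul_assoc] using h4
    · intro hg
      refine MulEquiv.ext fun q => ?_
      obtain ⟨y, rfl⟩ := QuotientGroup.mk_surjective q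
      show ((MulAut.conjNormal g y : L.F) : L.F ⧸ N) = (y : L.F ⧸ N)
      rw [QuotientGroup.eq, mem_subgroupOf]
      have hz := L.comm g hg (y : X)⁻¹ (inv_mem y.2)
      simpa [commutatorElement_def, MulAut.conjNormal_apply, mul_assoc] using hz
  rw [← hker, index_ker]
  refine (card_subgroup_dvd_card _).trans ?_
  rw [card_mulAut_prime hcard hexp]
  simp [Fin.prod_univ_two, sq]

/-- Degree two with the full automorphism group of the layer: eight half-weights of classes. -/
theorem four_mul_le (L : Layer ρ 2) (hinj : Function.Injective ρ)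
    (hd : Module.finrank (ZMod p) V = 2) (hp : p ≠ 2) (hS : L.F.index = 6) :
    4 * Nat.card L.Z ≤ Nat.card (ConjClasses X) := by
  classical
  haveI := L.zNormal
  haveI := L.fNormal
  haveI : Fact (Nat.Prime 2) := ⟨Nat.prime_two⟩
  haveI : Fact (Nat.Prime 3) := ⟨Nat.prime_three⟩
  set Q := X ⧸ L.Z
  let π : X →* Q := QuotientGroup.mk' L.Z
  set E : Subgroup Q := L.F.map π with hE
  haveI hEn : E.Normal := L.fNormal.map π (QuotientGroup.mk'_surjective L.Z)
  have hQ : Nat.card Q = 24 := by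
    show L.Z.index = 24
    rw [← relIndex_mul_index L.le, L.relIndex, hS]
  have hmemE : ∀ x : X, π x ∈ E ↔ x ∈ L.F := by
    intro x
    refine ⟨?_, fun hx => ⟨x, hx, rfl⟩⟩
    rintro ⟨y, hy, e⟩
    have h1 : y⁻¹ * x ∈ L.Z := QuotientGroup.eq.1 e
    simpa using mul_mem hy (L.le h1)
  have hEc : Nat.card E = 4 := by
    have h1 := E.card_mul_index
    rw [hE, index_map_eq _ (QuotientGroup.mk'_surjective L.Z) (by
      rw [QuotientGroup.ker_mk']; exact L.le), hS, hQ] at h1
    rw [hE]
    omega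
  have hEsq : ∀ e ∈ E, e * e = 1 := by
    rintro _ ⟨x, hx, rfl⟩
    rw [← map_mul]
    refine (QuotientGroup.eq_one_iff _).2 ?_
    by_contra hxx
    -- otherwise the layer is cyclic
    have ho : orderOf (π x) = 4 := by
      have h1 : orderOf (π x) ∣ 2 ^ 2 := by
        have h0 := Subgroup.orderOf_dvd_natCard E (show π x ∈ E from ⟨x, hx, rfl⟩)
        rw [hEc] at h0
        simpa using h0
      obtain ⟨j, hj, e⟩ := (Nat.dvd_prime_pow Nat.prime_two).1 h1
      interval_cases j
      · exact absurd ((QuotientGroup.eq_one_iff _).1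
          (by rw [QuotientGroup.mk_mul]; show π x * π x = 1; rw [orderOf_eq_one_iff.1 e, one_mul])) hxx
      · have h2 : π x ^ 2 = 1 := orderOf_dvd_iff_pow_eq_one.1 (dvd_of_eq (e.trans (pow_one 2)))
        rw [pow_two] at h2
        exact absurd ((QuotientGroup.eq_one_iff _).1 h2) hxx
      · exact e.trans (by norm_num)
    have hEz : zpowers (π x) = E := eq_of_le_of_card_ge (zpowers_le.2 ⟨x, hx, rfl⟩)
      (by rw [Nat.card_zpowers, ho, hEc])
    refine L.not_le le_rfl (L.abelian_le L.F L.fNormal fun a ha b hb => ?_)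
    obtain ⟨i, hi⟩ := Subgroup.mem_zpowers_iff.1 (hEz ▸ (hmemE a).2 ha)
    obtain ⟨i', hi'⟩ := Subgroup.mem_zpowers_iff.1 (hEz ▸ (hmemE b).2 hb)
    rw [← map_zpow] at hi hi'
    have hi1 : (x ^ i)⁻¹ * a ∈ L.Z := QuotientGroup.eq.1 hi
    have hi2 : (x ^ i')⁻¹ * b ∈ L.Z := QuotientGroup.eq.1 hi'
    have ea : a = x ^ i * ((x ^ i)⁻¹ * a) := by group
    have eb : b = x ^ i' * ((x ^ i')⁻¹ * b) := by group
    have c1 : ∀ y : X, ∀ z ∈ L.Z, Commute y z := fun y z hz => (mem_center_iff.1 (L.le_center hz) y : _)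
    rw [ea, eb]
    exact (((Commute.refl x).zpow_zpow i i').mul_right (c1 _ _ hi2)).mul_left ((c1 _ _ hi1).symm)
  have hEcomm : ∀ e ∈ E, ∀ e' ∈ E, e * e' = e' * e := fun e he e' he' => by
    have hinv : ∀ y ∈ E, y⁻¹ = y := fun y hy => inv_eq_of_mul_eq_one_right (hEsq y hy)
    calc e * e' = (e * e')⁻¹ := (hinv _ (mul_mem he he')).symm
      _ = e' * e := by rw [mul_inv_rev, hinv e he, hinv e' he']
  have hself : ∀ q : Q, (∀ e ∈ E, q * e = e * q) → q ∈ E := by
    intro q hq
    obtain ⟨x, rfl⟩ := QuotientGroup.mk_surjective q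
    refine (hmemE x).2 (L.ker x fun y hy => ?_)
    refine (QuotientGroup.eq_one_iff _).1 ?_
    show π ⁅x, y⁆ = 1
    rw [map_commutatorElement, commutatorElement_eq_one_iff_commute]
    exact hq _ ⟨y, hy, rfl⟩
  obtain ⟨r3, hr3⟩ := exists_prime_orderOf_dvd_card' (G := Q) 3 (by rw [hQ]; norm_num)
  obtain ⟨e0, he0, he0ne⟩ : ∃ e ∈ E, e ≠ 1 := (Subgroup.ne_bot_iff_exists_ne_one.1 fun h0 => by
    rw [h0, Subgroup.card_bot] at hEc; omega) |> fun ⟨e, he⟩ => ⟨e.1, e.2, fun h => he (Subtype.ext h)⟩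
  obtain ⟨P, hP⟩ := (IsPGroup.of_card (n := 2) (by rw [hEc]; norm_num) : IsPGroup 2 E).exists_le_sylow
  have hP8 : Nat.card P = 8 := by
    rw [P.card_eq_multiplicity, hQ]
    have : (24 : ℕ).factorization 2 = 3 := by
      rw [show (24 : ℕ) = 2 ^ 3 * 3 by norm_num, Nat.factorization_mul (by norm_num) (by norm_num),
        Finsupp.add_apply, Nat.Prime.factorization_pow Nat.prime_two,
        Nat.factorization_eq_zero_of_not_dvd (by norm_num : ¬ 2 ∣ 3)]
      simp
    rw [this]; norm_num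
  obtain ⟨s, hsP, hsE⟩ := SetLike.not_le_iff_exists.1 (fun hle : (P : Subgroup Q) ≤ E => by
    have := card_le_of_le hle
    omega)
  -- an element of order four outside and an involution outside
  have hout : ∃ t r : Q, t ∉ E ∧ t * t = 1 ∧ r * r ≠ 1 ∧ orderOf r ≠ 3 := by
    have hPsq : ∀ u ∈ (P : Subgroup Q), u * u ∈ E := by
      intro u hu
      have hrel : (E.subgroupOf P).index = 2 := by
        have h1 := (E.subgroupOf P).card_mul_index
        rw [Nat.card_congr (subgroupOfEquivOfLe hP).toEquiv, hEc] at h1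
        have h2 : Nat.card (P : Subgroup Q) = 8 := hP8
        omega
      exact mem_subgroupOf.1 (Subgroup.sq_mem_of_index_two hrel ⟨u, hu⟩) |> fun h => by
        simpa [pow_two] using h
    obtain ⟨v, hv, hvs⟩ : ∃ v ∈ E, s * v ≠ v * s := by
      by_contra! hcon
      exact hsE (hself s hcon)
    set w := s * v * s⁻¹ with hw
    have hwE : w ∈ E := hEn.conj_mem v hv s
    have hwv : w * v ≠ 1 := fun h => hvs (by
      have h1 : w = v := by rw [← mul_right_inj v, hEcomm v hv w hwE, h, hEsq v hv]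
      calc s * v = w * s := by rw [hw]; group
        _ = v * s := by rw [h1])
    have hsv : (s * v) * (s * v) = w * v * (s * s) := by
      rw [mul_assoc w, hEcomm v hv _ (hPsq s hsP), hw]
      group
    have hsvE : s * v ∉ E := fun h => hsE (by simpa using mul_mem h (inv_mem hv))
    have hord : ∀ u ∈ (P : Subgroup Q), orderOf u ≠ 3 := fun u hu h3 => by
      have := Subgroup.orderOf_dvd_natCard _ hu
      rw [h3, hP8] at this
      omega
    by_cases hs1 : s * s = 1
    · refine ⟨s, s * v, hsE, hs1, ?_, hord _ (mul_mem hsP (hP hv))⟩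
      rw [hsv, hs1, mul_one]
      exact hwv
    · refine ⟨s * v, s, hsvE, ?_, hs1, hord _ hsP⟩
      rw [hsv]
      -- both are the non-trivial element fixed by `s`
      by_contra hne
      have hfix1 : s * (w * v) * s⁻¹ = w * v := by
        have h2 : s * w * s⁻¹ = v := by
          have e1 : s * w * s⁻¹ = (s * s) * v * (s * s)⁻¹ := by rw [hw]; group
          rw [e1, hEcomm _ (hPsq s hsP) v hv, mul_inv_cancel_right]
        calc s * (w * v) * s⁻¹ = (s * w * s⁻¹) * w := by rw [hw]; group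
          _ = w * v := by rw [h2, hEcomm v hv w hwE]
      have hfix2 : s * (s * s) * s⁻¹ = s * s := by group
      -- four elements fixed by `s` would make it centralise the layer
      let T : Subgroup Q := E ⊓ centralizer ({s} : Set Q)
      have hmemT : ∀ y ∈ E, s * y * s⁻¹ = y → y ∈ T := fun y hy hf => ⟨hy, mem_centralizer_singleton_iff.2
        (mul_inv_eq_iff_eq_mul.1 hf).symm⟩
      have hTlt : Nat.card T ≤ 2 := by
        have hdvd : Nat.card T ∣ 2 ^ 2 := by
          have h4 := card_dvd_of_le (inf_le_left : T ≤ E)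
          rw [hEc] at h4
          exact h4
        obtain ⟨j, hj, e⟩ := (Nat.dvd_prime_pow Nat.prime_two).1 hdvd
        interval_cases j <;> rw [e] <;> norm_num
        exact hvs ((mem_centralizer_singleton_iff.1
          ((eq_of_le_of_card_ge (inf_le_left : T ≤ E) (by rw [e, hEc]; norm_num)).ge hv).2).symm)
      have h3 : Nat.card ({1, w * v, s * s} : Set Q) ≤ Nat.card T := Nat.card_mono (Set.toFinite _) (by
        rintro y (rfl | rfl | rfl)
        · exact one_mem _
        · exact hmemT _ (mul_mem hwE hv) hfix1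
        · exact hmemT _ (hPsq s hsP) hfix2)
      rw [Nat.card_coe_set_eq, Set.ncard_insert_of_notMem, Set.ncard_pair] at h3
      · omega
      · intro h4
        exact hne (by rw [h4, hEsq _ (hPsq s hsP)])
      · rintro (h4 | h4)
        · exact hwv h4.symm
        · exact hs1 h4.symm
  obtain ⟨t, r, htE, ht2, hr2, hr3'⟩ := hout
  -- the five classes
  let fib : ConjClasses Q → ℕ := fun b =>
    Nat.card {c : ConjClasses X // ConjClasses.map (QuotientGroup.mk' L.Z) c = b}
  have hd0 : 0 < Module.finrank (ZMod p) V := by omega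
  have hhalf : ∀ b, Nat.card L.Z ≤ 2 * fib b := by
    intro b
    obtain ⟨q, rfl⟩ := ConjClasses.mk_surjective b
    obtain ⟨h, rfl⟩ := QuotientGroup.mk_surjective q
    exact card_le_fibre L.Z h 2 ((card_translations_le hinj L.scalar hd0 h).trans hd.le) L.le_center
  have hfull : ∀ q : Q, q * q ≠ 1 → Nat.card L.Z ≤ fib (ConjClasses.mk q) := by
    intro q hq
    obtain ⟨h, rfl⟩ := QuotientGroup.mk_surjective q
    refine (card_le_fibre L.Z h 1 (translations_trivial hinj L.scalar hd hp fun c hc => hq ?_)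
      L.le_center).trans_eq (one_mul _)
    exact (QuotientGroup.eq_one_iff _).2 (L.mem_of_scalar _ c hc)
  have hone : Nat.card L.Z ≤ fib (ConjClasses.mk (1 : Q)) := by
    have := card_le_fibre L.Z (1 : X) 1 (by
      rw [Finite.card_le_one_iff_subsingleton]
      exact ⟨fun z w => Subtype.ext (Subtype.ext (by
        have h1 := isConj_one_left.1 z.2
        have h2 := isConj_one_left.1 w.2
        rw [one_mul] at h1 h2
        rw [h1, h2]))⟩) L.le_center
    rwa [one_mul, QuotientGroup.mk_one] at this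
  have hsq_conj : ∀ a b : Q, IsConj a b → a * a = 1 → b * b = 1 := fun a b h h1 => by
    obtain ⟨g, rfl⟩ := isConj_iff.1 h
    calc g * a * g⁻¹ * (g * a * g⁻¹) = g * (a * a) * g⁻¹ := by group
      _ = 1 := by rw [h1]; group
  have hord_conj : ∀ a b : Q, IsConj a b → orderOf a = orderOf b := fun a b h => by
    obtain ⟨g, rfl⟩ := isConj_iff.1 h
    exact ((MulAut.conj g).orderOf_eq a).symm
  have hr33 : r3 * r3 ≠ 1 := fun h => by
    have := orderOf_dvd_of_pow_eq_one (show r3 ^ 2 = 1 by rw [pow_two, h])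
    rw [hr3] at this; omega
  have n1 : ConjClasses.mk (1 : Q) ≠ ConjClasses.mk r3 := fun h =>
    hr33 (hsq_conj _ _ (ConjClasses.mk_eq_mk_iff_isConj.1 h) (one_mul 1))
  have n2 : ConjClasses.mk (1 : Q) ≠ ConjClasses.mk r := fun h =>
    hr2 (hsq_conj _ _ (ConjClasses.mk_eq_mk_iff_isConj.1 h) (one_mul 1))
  have n3 : ConjClasses.mk (1 : Q) ≠ ConjClasses.mk e0 := fun h =>
    he0ne (isConj_one_right.1 (ConjClasses.mk_eq_mk_iff_isConj.1 h))
  have n4 : ConjClasses.mk (1 : Q) ≠ ConjClasses.mk t := fun h =>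
    htE (isConj_one_right.1 (ConjClasses.mk_eq_mk_iff_isConj.1 h) ▸ one_mem E)
  have n5 : ConjClasses.mk r3 ≠ ConjClasses.mk r := fun h =>
    hr3' ((hord_conj _ _ (ConjClasses.mk_eq_mk_iff_isConj.1 h)).symm.trans hr3)
  have n6 : ConjClasses.mk e0 ≠ ConjClasses.mk r3 := fun h =>
    hr33 (hsq_conj _ _ (ConjClasses.mk_eq_mk_iff_isConj.1 h) (hEsq _ he0))
  have n7 : ConjClasses.mk t ≠ ConjClasses.mk r3 := fun h =>
    hr33 (hsq_conj _ _ (ConjClasses.mk_eq_mk_iff_isConj.1 h) ht2)
  have n8 : ConjClasses.mk e0 ≠ ConjClasses.mk r := fun h =>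
    hr2 (hsq_conj _ _ (ConjClasses.mk_eq_mk_iff_isConj.1 h) (hEsq _ he0))
  have n9 : ConjClasses.mk t ≠ ConjClasses.mk r := fun h =>
    hr2 (hsq_conj _ _ (ConjClasses.mk_eq_mk_iff_isConj.1 h) ht2)
  have n10 : ConjClasses.mk e0 ≠ ConjClasses.mk t := fun h => by
    obtain ⟨g, hg⟩ := isConj_iff.1 (ConjClasses.mk_eq_mk_iff_isConj.1 h)
    exact htE (hg ▸ hEn.conj_mem e0 he0 g)
  haveI := Fintype.ofFinite (ConjClasses Q)
  have hk : ∑ b ∈ ({ConjClasses.mk 1, ConjClasses.mk r3, ConjClasses.mk r, ConjClasses.mk e0,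
      ConjClasses.mk t} : Finset (ConjClasses Q)), fib b ≤ Nat.card (ConjClasses X) := by
    rw [classes_eq_sum L.Z]
    exact Finset.sum_le_sum_of_subset (Finset.subset_univ _)
  rw [Finset.sum_insert (by simp [n1, n2, n3, n4]), Finset.sum_insert (by simp [n5, n6.symm, n7.symm]),
    Finset.sum_insert (by simp [n8.symm, n9.symm]), Finset.sum_pair n10] at hk
  have := hfull r3 hr33
  have := hfull r hr2
  have := hhalf (ConjClasses.mk e0)
  have := hhalf (ConjClasses.mk t)
  omega

end Layer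

omit [Finite X] [Finite V] in
theorem le_of_bound {k x a i N B c : ℕ} (h1 : a * c ≤ N * k) (h2 : B ≤ x * (a * i))
    (h3 : N * i * p ^ 2 ≤ 5 * (c * B)) (hN : 0 < N * i) : p ^ 2 ≤ 5 * (k * x) := by
  refine Nat.le_of_mul_le_mul_left (le_trans h3 ?_) hN
  calc 5 * (c * B) ≤ 5 * (c * (x * (a * i))) := by gcongr
    _ = 5 * (x * i * (a * c)) := by ring
    _ ≤ 5 * (x * i * (N * k)) := by gcongr
    _ = N * i * (5 * (k * x)) := by ring

omit [Finite X] [Finite V] in
theorem six_of_bound {k x a i N B c T : ℕ} (h1 : a * c ≤ N * k) (h2 : B ≤ x * (a * i))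
    (h3 : N * i * T ≤ c * B) (hN : 0 < N * i) : T ≤ k * x := by
  refine Nat.le_of_mul_le_mul_left (le_trans h3 ?_) hN
  calc c * B ≤ c * (x * (a * i)) := by gcongr
    _ = x * i * (a * c) := by ring
    _ ≤ x * i * (N * k) := by gcongr
    _ = N * i * (k * x) := by ring

theorem sum_of_prod {p k x : ℕ} (hp : p.Prime) (h11 : 11 ≤ p) (h23 : p ≤ 23)
    (h : p ^ 2 - 1 ≤ 6 * (k * x)) : 49 * p ≤ 60 * (k + x) := by
  by_contra hlt
  have h4 : 4 * (k * x) ≤ (k + x) * (k + x) := by
    zify
    nlinarith [sq_nonneg ((k : ℤ) - x)]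
  have hsq : ∀ B, k + x ≤ B → 4 * (k * x) ≤ B * B := fun B hB => h4.trans (Nat.mul_le_mul hB hB)
  have := hsq (49 * p / 60) (by omega)
  interval_cases p <;> first | omega | (norm_num at hp)

theorem prime_small {p : ℕ} (hp : p.Prime) (h11 : 11 ≤ p) (h17 : p < 17) : p = 11 ∨ p = 13 := by
  interval_cases p <;> first | omega | (norm_num at hp)

/-- The quasi-primitive case. -/
theorem inv_field (hinj : Function.Injective ρ) (hp : 11 ≤ p) (D : FieldData ρ) : Inv ρ := by
  set d := Module.finrank (ZMod p) V with hdef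
  set k := Nat.card (ConjClasses X) with hkdef
  set x := orbNum ρ with hxdef
  haveI := D.normal
  haveI : FiniteDimensional (ZMod p) V := Module.Finite.of_finite
  have he := D.one_le_e
  have hm1 := D.one_le_m
  have hmr := D.m_le
  have hfr : d = D.e * D.r := D.finrank
  have hem : D.e * D.m ≤ d := hfr ▸ Nat.mul_le_mul_left _ hmr
  have hd0 : 0 < d := lt_of_lt_of_le (Nat.mul_pos (by omega) (by omega)) hem
  have hidx := D.index_zC_le (piecesOrdUpTo _)
  have horb : p ^ d - 1 ≤ x * Nat.card X := orb_count hd0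
  have hae : Nat.card (zC D.C) ≤ k * D.C.index :=
    card_le_classes_mul_index (zC D.C) D.C fun a ha c hc => (commute_zC ha hc).symm
  rcases Nat.lt_or_ge D.m 2 with hm | hm
  · have hm' : D.m = 1 := by omega
    rw [hm', phi_of_le_one le_rfl, mul_one, mul_one, mul_one] at hidx
    refine Or.inl ⟨zC D.C, fun a ha b hb => commute_zC hb ha.1, ?_⟩
    have hede : D.e ≤ d := by rw [hm', mul_one] at hem; exact hem
    rcases Nat.lt_or_ge d 2 with h2 | h2
    · exact Or.inl ⟨show d = 1 by omega,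
        le_antisymm (by omega) (Nat.pos_of_ne_zero index_ne_zero_of_finite)⟩
    · exact Or.inr ⟨h2, le_trans (Nat.mul_le_mul_right _ (Nat.pow_le_pow_left
        (Nat.mul_le_mul_left 49 (hidx.trans hede)) 2)) (dim_sq_le hp h2)⟩
  by_cases hex : D.e = 1 ∧ d = D.m ∧ (D.m = 2 ∨ D.m = 3 ∨ (D.m = 4 ∧ p < 17))
  swap
  · refine Or.inr (Or.inl ?_)
    have hgen := generic_arith hp he hm hem hex
    rw [← (zC D.C).card_mul_index] at horb
    refine le_of_bound (a := Nat.card (zC D.C)) (i := D.e * (D.m * D.m) * phi D.m) (N := D.e) (c := 1)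
      (B := p ^ d - 1) ?_ (horb.trans (by gcongr)) (by rw [one_mul]; exact hgen)
      (Nat.mul_pos (by omega) (Nat.mul_pos (Nat.mul_pos (by omega) (Nat.mul_pos (by omega) (by omega)))
        (phi_pos _)))
    rw [mul_one, mul_comm D.e]
    exact hae.trans (Nat.mul_le_mul_left _ D.index_le)
  obtain ⟨he1, hdm, hcases⟩ := hex
  obtain ⟨L⟩ := exists_layer hinj D he1
  haveI := L.zNormal
  haveI := L.fNormal
  set a := Nat.card L.Z
  set S := L.F.index with hSdef
  set κ' := Nat.card (ConjClasses (X ⧸ L.F)) with hκ'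
  have hS0 : 0 < S := Nat.pos_of_ne_zero index_ne_zero_of_finite
  have ha0 : 0 < a := Nat.card_pos
  have hSphi : S ≤ phi D.m := L.index_le
  have hκS : ∀ j, S ≤ j → Nat.card (X ⧸ L.F) ≤ j := fun j hj => hj
  have hk1 : 1 ≤ κ' := Nat.card_pos
  have hk4 : 7 ≤ S → 4 ≤ κ' := fun h7 => by
    by_contra hc
    have := card_le_six (G := X ⧸ L.F) (by omega)
    have : Nat.card (X ⧸ L.F) = S := rfl
    omega
  rw [L.card_eq] at horb
  replace horb : p ^ d - 1 ≤ x * (a * (D.m * D.m * S)) := horb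
  have hcb : ∀ κ, κ ≤ κ' + 1 → a * (d + κ - 1) ≤ d * k := fun κ hκ => L.classes_bound hinj hm hd0 hκ
  have haDvd : a ∣ p - 1 := L.card_dvd
  have haPr : ∀ q : ℕ, q.Prime → q ∣ D.m → q ∣ a := L.prime_dvd
  have hidvd : ∀ l : ℕ, l.Prime → D.m = l → S ∣ (l ^ 2 - 1) * (l ^ 2 - l) := fun l hl e =>
    haveI := Fact.mk hl
    L.index_dvd e
  have hprime : S.Prime → S ≤ κ' := fun h => prime_le_classes (G := X ⧸ L.F) h
  have hfive : S = 24 → 5 ≤ κ' := fun h => five_le_of_card (G := X ⧸ L.F) h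
  have hfour : D.m = 2 → S = 6 → 4 * a ≤ k := by
    intro hm2 hS6
    have hL : ∀ (m : ℕ) (L : Layer ρ m), m = 2 → L.F.index = 6 →
        4 * Nat.card L.Z ≤ Nat.card (ConjClasses X) := by
      intro m L hm6 hS6
      subst hm6
      exact Layer.four_mul_le L hinj (by rw [← hdef, hdm, hm2]) (by omega) hS6
    exact hL _ L hm2 hS6
  clear_value a S κ'
  rcases hcases with h2 | h3 | ⟨h4, hp17⟩
  · -- degree two
    rw [hdm, h2] at horb hcb
    have hdvd : S ∣ 6 := by simpa using hidvd 2 Nat.prime_two h2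
    have hS6 := Nat.le_of_dvd (by norm_num) hdvd
    have hp2 : 121 ≤ p ^ 2 := Nat.pow_le_pow_left hp 2
    interval_cases hSv : S <;> (try omega)
    · refine Or.inr (Or.inl (le_of_bound (a := a) (i := 4) (N := 2) (c := 3) (B := p ^ 2 - 1)
        (hcb 2 (by omega)) horb (by omega) (by norm_num)))
    · have := hprime Nat.prime_two
      refine Or.inr (Or.inl (le_of_bound (a := a) (i := 8) (N := 2) (c := 4) (B := p ^ 2 - 1)
        (hcb 3 (by omega)) horb (by omega) (by norm_num)))
    · have := hprime Nat.prime_three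
      refine Or.inr (Or.inl (le_of_bound (a := a) (i := 12) (N := 2) (c := 5) (B := p ^ 2 - 1)
        (hcb 4 (by omega)) horb (by omega) (by norm_num)))
    · -- the extremal configuration
      have hk4a : 4 * a ≤ k := hfour h2 rfl
      have h6 : p ^ 2 - 1 ≤ 6 * (k * x) := by
        calc p ^ 2 - 1 ≤ x * (a * (2 * 2 * 6)) := horb
          _ = 6 * ((4 * a) * x) := by ring
          _ ≤ 6 * (k * x) := by gcongr
      obtain ⟨b, hb⟩ := haDvd
      refine Or.inr (Or.inr ⟨h6, ?_, fun hx1 => ?_⟩)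
      · rcases eq_or_ne b 0 with rfl | hb0
        · omega
        by_cases hb9 : b = 9 ∧ p < 25
        · obtain ⟨rfl, hp25⟩ := hb9
          have h2a : 2 ∣ a := haPr 2 Nat.prime_two (by rw [h2])
          have hp19 : p = 19 := by omega
          subst hp19
          have ha2 : a = 2 := by omega
          rw [ha2] at horb
          omega
        have hcrit := critical_arith (b := b) hp (by omega)
        have h24 : b * (p + 1) ≤ 24 * x := by
          refine Nat.le_of_mul_le_mul_left ?_ ha0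
          calc a * (b * (p + 1)) = (p - 1) * (p + 1) := by rw [hb]; ring
            _ = p ^ 2 - 1 := by rw [mul_comm, ← Nat.sq_sub_sq, one_pow]
            _ ≤ x * (a * (2 * 2 * 6)) := horb
            _ = a * (24 * x) := by ring
        refine Nat.le_of_mul_le_mul_left ?_ (Nat.mul_pos (by norm_num : 0 < 2) (Nat.pos_of_ne_zero hb0))
        calc 2 * b * (49 * p) = 98 * p * b := by ring
          _ ≤ 480 * (p - 1) + 5 * b ^ 2 * (p + 1) := hcrit
          _ = 480 * (a * b) + 5 * b * (b * (p + 1)) := by rw [hb]; ring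
          _ ≤ 480 * (a * b) + 5 * b * (24 * x) := by gcongr
          _ = 120 * b * (4 * a) + 120 * b * x := by ring
          _ ≤ 120 * b * k + 120 * b * x := by gcongr
          _ = 2 * b * (60 * (k + x)) := by ring
      · rw [show x = 1 from hx1, one_mul] at horb
        have hale := Nat.le_of_dvd (by omega) ⟨b, hb⟩
        have : (p - 1) * (p + 1) ≤ (p - 1) * 24 := by
          calc (p - 1) * (p + 1) = p ^ 2 - 1 := by rw [mul_comm, ← Nat.sq_sub_sq, one_pow]
            _ ≤ a * (2 * 2 * 6) := horb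
            _ ≤ (p - 1) * 24 := Nat.mul_le_mul hale (by norm_num)
        have := Nat.le_of_mul_le_mul_left this (by omega)
        omega
  · -- degree three
    rw [hdm, h3] at horb hcb
    rw [h3] at hSphi
    have hS24 : S ≤ 24 := hSphi.trans (by decide)
    have hdvd : S ∣ 48 := by simpa using hidvd 3 Nat.prime_three h3
    have hp13 : 13 ≤ p := by
      have h3a : 3 ∣ a := haPr 3 Nat.prime_three (by rw [h3])
      have := h3a.trans haDvd
      by_contra hlt
      rcases prime_small (Fact.out : p.Prime) hp (by omega) with e | e <;> omega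
    have hp3 : ∀ {q}, q ≤ p → q * p ^ 2 ≤ p ^ 3 := fun {q} hq => by
      calc q * p ^ 2 ≤ p * p ^ 2 := Nat.mul_le_mul_right _ hq
        _ = p ^ 3 := by ring
    have h13 := hp3 hp13
    have hp2 : 169 ≤ p ^ 2 := Nat.pow_le_pow_left hp13 2
    by_cases h24 : S = 24
    · have hκ5 : 5 ≤ κ' := hfive h24
      rw [h24] at horb
      by_cases hp17 : 17 ≤ p
      · have h17 := hp3 hp17
        refine Or.inr (Or.inl (le_of_bound (a := a) (i := 216) (N := 3) (c := 8) (B := p ^ 3 - 1)
          (hcb 6 (by omega)) horb (by omega) (by norm_num)))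
      · have hp13' : p = 13 := by
          rcases prime_small (Fact.out : p.Prime) hp (by omega) with e | e <;> omega
        have h28 : 28 ≤ k * x := by
          have h27 : 8 * (p ^ 3 - 1) ≤ 648 * (k * x) := by
            calc 8 * (p ^ 3 - 1) ≤ 8 * (x * (a * (3 * 3 * 24))) := Nat.mul_le_mul_left 8 horb
              _ = 216 * x * (a * (3 + 6 - 1)) := by ring
              _ ≤ 216 * x * (3 * k) := Nat.mul_le_mul_left _ (hcb 6 (by omega))
              _ = 648 * (k * x) := by ring
          rw [hp13'] at h27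
          omega
        have h6 : p ^ 2 - 1 ≤ 6 * (k * x) := by rw [hp13']; omega
        exact Or.inr (Or.inr ⟨h6, sum_of_prod Fact.out hp (by omega) h6, fun _ => by omega⟩)
    by_cases h8 : S ≤ 8
    · refine Or.inr (Or.inl (le_of_bound (a := a) (i := 3 * 3 * 8) (N := 3) (c := 4) (B := p ^ 3 - 1)
        (hcb 2 (by omega)) (horb.trans (by gcongr)) (by omega) (by norm_num)))
    · have h16 : S ≤ 16 := by
        interval_cases S <;> omega
      have := hk4 (by omega)
      refine Or.inr (Or.inl (le_of_bound (a := a) (i := 3 * 3 * 16) (N := 3) (c := 7) (B := p ^ 3 - 1)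
        (hcb 5 (by omega)) (horb.trans (by gcongr)) (by omega) (by norm_num)))
  · -- degree four
    rw [hdm, h4] at horb hcb
    rw [h4] at hSphi
    have hS72 : S ≤ 72 := hSphi.trans (by decide)
    have hp4 : 121 * p ^ 2 ≤ p ^ 4 := by
      calc 121 * p ^ 2 ≤ p ^ 2 * p ^ 2 := Nat.mul_le_mul_right _ (Nat.pow_le_pow_left hp 2)
        _ = p ^ 4 := by ring
    have hp2 : 121 ≤ p ^ 2 := Nat.pow_le_pow_left hp 2
    by_cases h47 : S ≤ 47
    · refine Or.inr (Or.inl (le_of_bound (a := a) (i := 4 * 4 * 47) (N := 4) (c := 5) (B := p ^ 4 - 1)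
        (hcb 2 (by omega)) (horb.trans (by gcongr)) (by omega) (by norm_num)))
    · have := hk4 (by omega)
      refine Or.inr (Or.inl (le_of_bound (a := a) (i := 4 * 4 * 72) (N := 4) (c := 8) (B := p ^ 4 - 1)
        (hcb 5 (by omega)) (horb.trans (by gcongr)) (by omega) (by norm_num)))

end Field

end CfsgLib.Class49
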