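import Cfsg.Agent.Lib.Class49.Invariant
import Cfsg.Agent.Lib.Solvable.MinNormal
import Mathlib

/-!
# Class numbers of solvable groups of order divisible by the square of a prime

`49 p ≤ 60 k(G)` for a solvable group `G` with `p ^ 2` dividing the order.
-/

set_option autoImplicit false
set_option linter.style.haveILetI false
set_option maxHeartbeats 800000

namespace CfsgLib.Class49

open Subgroup CfsgLib.ClassBound CfsgLib.MinNormal
open scoped commutatorElement

variable {G : Type} [Group G] [Finite G]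

/-- Classes inside a normal subgroup add to the classes of the quotient. -/
theorem classes_quot_add_le (P : Subgroup G) [P.Normal] {α : Type} [Finite α] (f : α → ConjClasses G)
    (hinj : Function.Injective f)
    (hmap : ∀ a, ConjClasses.map (QuotientGroup.mk' P) (f a) = ConjClasses.mk 1)
    (hne : ∀ a, f a ≠ ConjClasses.mk 1) :
    Nat.card (ConjClasses (G ⧸ P)) + Nat.card α ≤ Nat.card (ConjClasses G) := by
  classical
  have hs := ConjClasses.map_surjective (QuotientGroup.mk'_surjective P)
  let g : ConjClasses (G ⧸ P) → ConjClasses G := fun b =>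
    if b = ConjClasses.mk 1 then ConjClasses.mk 1 else Function.surjInv hs b
  have hg : ∀ b, ConjClasses.map (QuotientGroup.mk' P) (g b) = b := by
    intro b
    by_cases hb : b = ConjClasses.mk 1
    · simp only [g, if_pos hb]
      rw [hb]
      exact congrArg ConjClasses.mk (map_one (QuotientGroup.mk' P))
    · simp only [g, if_neg hb]
      exact Function.surjInv_eq hs b
  rw [← Nat.card_sum]
  refine Nat.card_le_card_of_injective (Sum.elim g f)
    ((Function.LeftInverse.injective hg).sumElim hinj fun b a e => hne a ?_)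
  have hb : b = ConjClasses.mk 1 := by rw [← hg b, e, hmap a]
  rw [← e]
  simp only [g, if_pos hb]

theorem two_le_classes [Nontrivial G] : 2 ≤ Nat.card (ConjClasses G) := by
  haveI := Fintype.ofFinite (ConjClasses G)
  obtain ⟨g, hg⟩ := exists_ne (1 : G)
  rw [Nat.card_eq_fintype_card]
  exact Fintype.one_lt_card_iff.2 ⟨ConjClasses.mk g, ConjClasses.mk 1, fun e =>
    hg (isConj_one_left.1 (ConjClasses.mk_eq_mk_iff_isConj.1 e))⟩

theorem mul_le_of_sq {p k x : ℕ} (hp : 2 ≤ p) (h : p ^ 2 - 1 ≤ k * x) : 49 * p ≤ 60 * (k + x) := by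
  by_contra hlt
  rw [not_le] at hlt
  have h4 : 4 * (k * x) ≤ (k + x) ^ 2 := by rw [← mul_assoc]; exact four_mul_le_sq_add k x
  have h1 : 14400 * (p ^ 2 - 1) < 2401 * p ^ 2 := by
    calc 14400 * (p ^ 2 - 1) ≤ 3600 * (4 * (k * x)) := by omega
      _ ≤ 3600 * (k + x) ^ 2 := Nat.mul_le_mul_left _ h4
      _ = (60 * (k + x)) ^ 2 := by ring
      _ < (49 * p) ^ 2 := Nat.pow_lt_pow_left hlt (by norm_num)
      _ = 2401 * p ^ 2 := by ring
  have : 4 ≤ p ^ 2 := Nat.pow_le_pow_left hp 2
  omega

/-- A normal abelian subgroup of order `p ^ 2` with a quotient of order prime to `p`. -/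
theorem sylow_case {p : ℕ} [hp : Fact p.Prime] (V P : Subgroup G) [hVn : V.Normal] [hPn : P.Normal]
    (hVP : V ≤ P) (hP : Nat.card P = p ^ 2) (hV : Nat.card V = p) (hco : ¬ p ∣ P.index)
    (hab : ∀ a ∈ P, ∀ b ∈ P, Commute a b) : 49 * p ≤ 60 * Nat.card (ConjClasses G) := by
  classical
  set C := centralizer (P : Set G) with hC
  have hPC : P ≤ C := fun a ha => mem_centralizer_iff.2 fun b hb => (hab b hb a ha).eq
  -- commutators centralise the subgroup
  have hcomm : ∀ a b : G, ⁅a, b⁆ ∈ C := by
    haveI : (V.subgroupOf P).Normal := normal_subgroupOf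
    have hPV : Nat.card (P ⧸ V.subgroupOf P) = p := by
      have h := (V.subgroupOf P).card_mul_index
      rw [Nat.card_congr (subgroupOfEquivOfLe hVP).toEquiv, hV, hP, sq] at h
      exact Nat.eq_of_mul_eq_mul_left hp.out.pos h
    let act : G →* MulAut (P ⧸ V.subgroupOf P) :=
      MonoidHom.mk' (fun g => QuotientGroup.congr (V.subgroupOf P) (V.subgroupOf P) (MulAut.conjNormal g) (by
          ext y
          refine (Subgroup.mem_map_equiv (f := MulAut.conjNormal g)).trans ?_
          rw [mem_subgroupOf, mem_subgroupOf, MulAut.conjNormal_symm_apply]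
          refine ⟨fun hy => ?_, fun hy => by simpa using hVn.conj_mem _ hy g⁻¹⟩
          have h5 := hVn.conj_mem _ hy g
          simpa [mul_assoc] using h5))
        fun g g' => MulEquiv.ext fun q => by
          obtain ⟨y, rfl⟩ := QuotientGroup.mk_surjective q
          show ((MulAut.conjNormal (g * g') y : P) : P ⧸ V.subgroupOf P) =
            ((MulAut.conjNormal g (MulAut.conjNormal g' y) : P) : P ⧸ V.subgroupOf P)
          rw [map_mul, MulAut.mul_apply]
    haveI : IsCyclic V := isCyclic_of_prime_card hV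
    haveI : IsCyclic (P ⧸ V.subgroupOf P) := isCyclic_of_prime_card hPV
    have hcommAut : ∀ {Q : Type} [Group Q] [IsCyclic Q] (f f' : MulAut Q), f * f' = f' * f := by
      intro Q _ _ f f'
      refine MulEquiv.ext fun q => ?_
      obtain ⟨u, hu⟩ := IsCyclic.exists_generator (α := Q)
      obtain ⟨i, rfl⟩ := Subgroup.mem_zpowers_iff.1 (hu q)
      obtain ⟨j, hj⟩ := Subgroup.mem_zpowers_iff.1 (hu (f u))
      obtain ⟨l, hl⟩ := Subgroup.mem_zpowers_iff.1 (hu (f' u))
      rw [map_zpow, map_zpow]
      congr 1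
      show f (f' u) = f' (f u)
      rw [← hl, ← hj, map_zpow, map_zpow, ← hl, ← hj, ← zpow_mul, ← zpow_mul, mul_comm]
    intro a b
    set c := ⁅a, b⁆ with hc
    have h1 : (MulAut.conjNormal : G →* MulAut V) c = 1 := by
      rw [hc, map_commutatorElement, commutatorElement_eq_one_iff_mul_comm]
      exact hcommAut _ _
    have h2 : act c = 1 := by
      rw [hc, map_commutatorElement, commutatorElement_eq_one_iff_mul_comm]
      exact hcommAut _ _
    have hfixV : ∀ v ∈ V, c * v * c⁻¹ = v := fun v hv => by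
      have h3 := congrArg Subtype.val (DFunLike.congr_fun h1 (⟨v, hv⟩ : V))
      simpa [MulAut.conjNormal_apply] using h3
    have hpow : ∀ x ∈ P, c ^ p * x * (c ^ p)⁻¹ = x := by
      intro x hx
      have h3 : ((MulAut.conjNormal c (⟨x, hx⟩ : P) : P) : P ⧸ V.subgroupOf P) =
          ((⟨x, hx⟩ : P) : P ⧸ V.subgroupOf P) :=
        DFunLike.congr_fun h2 (((⟨x, hx⟩ : P)) : P ⧸ V.subgroupOf P)
      have h4 : x⁻¹ * (c * x * c⁻¹) ∈ V := by
        simpa [MulAut.conjNormal_apply] using mem_subgroupOf.1 (QuotientGroup.eq.1 h3.symm)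
      set v := x⁻¹ * (c * x * c⁻¹) with hv
      have hiter : ∀ i : ℕ, c ^ i * x * (c ^ i)⁻¹ = x * v ^ i := by
        intro i
        induction i with
        | zero => simp
        | succ i ih =>
          calc c ^ (i + 1) * x * (c ^ (i + 1))⁻¹ = c * (c ^ i * x * (c ^ i)⁻¹) * c⁻¹ := by
                rw [pow_succ']; group
            _ = (c * x * c⁻¹) * (c * v ^ i * c⁻¹) := by rw [ih]; group
            _ = x * v ^ (i + 1) := by rw [hfixV _ (pow_mem h4 i), pow_succ', ← mul_assoc, hv, mul_inv_cancel_left]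
      have hvp : v ^ p = 1 := by
        have h5 := congrArg Subtype.val (pow_card_eq_one' (x := (⟨v, h4⟩ : V)))
        rw [hV] at h5
        simpa using h5
      rw [hiter p, hvp, mul_one]
    have hcp : c ^ p ∈ C := mem_centralizer_iff.2 fun x hx => by
      have h5 := mul_inv_eq_iff_eq_mul.1 (hpow x hx)
      exact h5.symm
    haveI : C.Normal := normal_centralizer
    have hm : c ^ C.index ∈ C := pow_index_mem C c
    have hcop : Nat.Coprime p C.index :=
      hp.out.coprime_iff_not_dvd.2 fun h => hco (h.trans (index_dvd_of_le hPC))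
    have hz : c ^ ((Nat.gcd p C.index : ℕ) : ℤ) ∈ C := by
      rw [Nat.gcd_eq_gcd_ab, zpow_add, zpow_mul, zpow_mul, zpow_natCast, zpow_natCast]
      exact mul_mem (zpow_mem hcp _) (zpow_mem hm _)
    rw [hcop.gcd_eq_one, Nat.cast_one, zpow_one] at hz
    exact hz
  haveI : C.Normal := normal_centralizer
  have hh : C.index ≤ Nat.card (ConjClasses (G ⧸ P)) := by
    have h1 : C.index ≤ Nat.card (ConjClasses (G ⧸ C)) := by
      have h2 := card_abelian_le (G := G ⧸ C) ⊤ fun a _ b _ => by
        obtain ⟨a, rfl⟩ := QuotientGroup.mk_surjective a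
        obtain ⟨b, rfl⟩ := QuotientGroup.mk_surjective b
        exact commutatorElement_eq_one_iff_commute.1 ((QuotientGroup.eq_one_iff _).2 (hcomm a b))
      rw [index_top, mul_one, card_top] at h2
      exact h2
    refine h1.trans (card_conjClasses_le_of_surjective (QuotientGroup.map P C (MonoidHom.id G) hPC) ?_)
    intro q
    obtain ⟨y, rfl⟩ := QuotientGroup.mk_surjective q
    exact ⟨(y : G ⧸ P), rfl⟩
  let α := {c : ConjClasses G //
    ConjClasses.map (QuotientGroup.mk' P) c = ConjClasses.mk 1 ∧ c ≠ ConjClasses.mk 1}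
  have hk := classes_quot_add_le P (α := α) Subtype.val Subtype.val_injective (fun a => a.2.1)
    (fun a => a.2.2)
  let F : {a : P // a ≠ 1} → α := fun a => ⟨ConjClasses.mk (a.1 : G),
    congrArg ConjClasses.mk ((QuotientGroup.eq_one_iff _).2 a.1.2),
    fun e => a.2 (Subtype.ext (isConj_one_left.1 (ConjClasses.mk_eq_mk_iff_isConj.1 e)))⟩
  have hx : p ^ 2 - 1 ≤ Nat.card α * C.index := by
    have h1 : Nat.card {a : P // a ≠ 1} = p ^ 2 - 1 := by
      haveI := Fintype.ofFinite P
      rw [Nat.card_eq_fintype_card, Fintype.card_subtype_compl, Fintype.card_subtype_eq,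
        ← Nat.card_eq_fintype_card, hP]
    rw [← h1]
    refine card_le_card_mul_of_fibre F C.index fun a => ?_
    have hex : ∀ b : {b // F b = F a}, ∃ g : G, g * (a.1 : G) * g⁻¹ = (b.1.1 : G) := fun b =>
      isConj_iff.1 (ConjClasses.mk_eq_mk_iff_isConj.1 (congrArg Subtype.val b.2).symm)
    choose g hg using hex
    refine Nat.card_le_card_of_injective (fun b => (g b : G ⧸ C)) fun b b' e => ?_
    apply Subtype.ext; apply Subtype.ext; apply Subtype.ext
    rw [← hg b, ← hg b']
    have h2 : (g b)⁻¹ * g b' ∈ C := QuotientGroup.eq.1 e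
    calc g b * (a.1 : G) * (g b)⁻¹ = g b * ((a.1 : G) * ((g b)⁻¹ * g b')) * (g b')⁻¹ := by group
      _ = g b * (((g b)⁻¹ * g b') * (a.1 : G)) * (g b')⁻¹ := by
          rw [mem_centralizer_iff.1 h2 _ a.1.2]
      _ = g b' * (a.1 : G) * (g b')⁻¹ := by group
  exact (mul_le_of_sq hp.out.two_le (by rw [mul_comm]; exact hx)).trans
    (Nat.mul_le_mul_left 60 (by omega))

/-- A minimal normal subgroup of order at least `p ^ 2`. -/
theorem irred_case {p : ℕ} [hp : Fact p.Prime] (h5 : 5 ≤ p) (hsol : Group.IsSolvable G) (V : Subgroup G)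
    (hV : IsMinNormal V) (hab : ∀ a ∈ V, ∀ b ∈ V, Commute a b) {n : ℕ} (hn : 2 ≤ n)
    (hcard : Nat.card V = p ^ n) {U : Type} [AddCommGroup U] [Module (ZMod p) U] (e : U ≃ V)
    (he : ∀ u u', e (u + u') = e u * e u') : 49 * p ≤ 60 * Nat.card (ConjClasses G) := by
  classical
  haveI := hV.1
  haveI := hsol
  haveI : Finite U := Finite.of_equiv V e.symm
  haveI : FiniteDimensional (ZMod p) U := Module.Finite.of_finite
  have hdim : Module.finrank (ZMod p) U = n := by
    have h := Module.natCard_eq_pow_finrank (K := ZMod p) (V := U)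
    rw [Nat.card_congr e, hcard, Nat.card_zmod] at h
    exact Nat.pow_right_injective hp.out.two_le h.symm
  have he0 : e 0 = 1 := by
    have h := he 0 0
    rw [add_zero] at h
    exact mul_eq_left.1 h.symm
  have headd : ∀ x y : V, e.symm (x * y) = e.symm x + e.symm y := fun x y => e.injective (by simp [he])
  let ρ : G →* Module.End (ZMod p) U :=
    { toFun := fun g => AddMonoidHom.toZModLinearMap p
        { toFun := fun u => e.symm (MulAut.conjNormal g (e u))
          map_zero' := by rw [he0, map_one, ← he0, Equiv.symm_apply_apply]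
          map_add' := fun u u' => by rw [he, map_mul, headd] }
      map_one' := LinearMap.ext fun u => by
        show e.symm (MulAut.conjNormal (1 : G) (e u)) = u
        rw [map_one, MulAut.one_apply, Equiv.symm_apply_apply]
      map_mul' := fun g g' => LinearMap.ext fun u => by
        show e.symm (MulAut.conjNormal (g * g') (e u)) =
          e.symm (MulAut.conjNormal g (e (e.symm (MulAut.conjNormal g' (e u)))))
        rw [Equiv.apply_symm_apply, map_mul, MulAut.mul_apply] }
  have hρ : ∀ g u, ρ g u = e.symm (MulAut.conjNormal g (e u)) := fun g u => rfl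
  have hVker : V ≤ ρ.ker := fun v hv => MonoidHom.mem_ker.2 (LinearMap.ext fun u => by
    rw [hρ, Module.End.one_apply, Equiv.symm_apply_eq]
    refine Subtype.ext ?_
    rw [MulAut.conjNormal_apply, (hab v hv _ (e u).2).eq, mul_inv_cancel_right])
  have hirr : Irred ρ := by
    refine ⟨Module.nontrivial_of_finrank_pos (R := ZMod p) (by omega), fun W hW => ?_⟩
    let M : Subgroup G :=
      { carrier := {g | ∃ u ∈ W, (e u : G) = g}
        one_mem' := ⟨0, W.zero_mem, by rw [he0, OneMemClass.coe_one]⟩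
        mul_mem' := by
          rintro _ _ ⟨u, hu, rfl⟩ ⟨u', hu', rfl⟩
          exact ⟨u + u', W.add_mem hu hu', by rw [he, MulMemClass.coe_mul]⟩
        inv_mem' := by
          rintro _ ⟨u, hu, rfl⟩
          refine ⟨-u, W.neg_mem hu, ?_⟩
          rw [← InvMemClass.coe_inv, Subtype.coe_inj, eq_inv_iff_mul_eq_one, ← he, neg_add_cancel, he0] }
    have hMV : M ≤ V := by
      rintro _ ⟨u, -, rfl⟩
      exact (e u).2
    have hMn : M.Normal := ⟨by
      rintro _ ⟨u, hu, rfl⟩ g
      exact ⟨ρ g u, hW g u hu, by rw [hρ, Equiv.apply_symm_apply, MulAut.conjNormal_apply]⟩⟩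
    rcases hV.2.2 M hMn hMV with h | h
    · refine Or.inl ((Submodule.eq_bot_iff W).2 fun u hu => e.injective (Subtype.ext ?_))
      rw [he0, OneMemClass.coe_one]
      exact Subgroup.mem_bot.1 (h ▸ (⟨u, hu, rfl⟩ : (e u : G) ∈ M))
    · refine Or.inr (eq_top_iff.2 fun u _ => ?_)
      obtain ⟨u', hu', h'⟩ : (e u : G) ∈ M := by rw [h]; exact (e u).2
      rwa [← e.injective (Subtype.ext h')]
  set H := G ⧸ ρ.ker
  set x := orbNum (quotRep ρ) with hx
  have hk : Nat.card (ConjClasses H) + x ≤ Nat.card (ConjClasses G) := by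
    haveI : Finite (Quotient (orbSetoid (quotRep ρ))) := Quotient.finite _
    refine le_trans (Nat.add_le_add_right (card_conjClasses_le_of_surjective
      (QuotientGroup.map V ρ.ker (MonoidHom.id G) hVker) ?_) _) (classes_quot_add_le V
      (α := Quotient (orbSetoid (quotRep ρ)))
      (Quotient.lift (fun v : {v : U // v ≠ 0} => ConjClasses.mk (e v.1 : G)) ?_) ?_ ?_ ?_)
    · intro q
      obtain ⟨y, rfl⟩ := QuotientGroup.mk_surjective q
      exact ⟨(y : G ⧸ V), rfl⟩
    · rintro v w ⟨g, hg⟩
      obtain ⟨g, rfl⟩ := QuotientGroup.mk_surjective g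
      rw [quotRep_mk, hρ] at hg
      refine ConjClasses.mk_eq_mk_iff_isConj.2 (isConj_iff.2 ⟨g, ?_⟩)
      rw [← hg, Equiv.apply_symm_apply, MulAut.conjNormal_apply]
    · intro a b
      induction a using Quotient.inductionOn with
      | h a =>
      induction b using Quotient.inductionOn with
      | h b =>
      intro h
      obtain ⟨g, hg⟩ := isConj_iff.1 (ConjClasses.mk_eq_mk_iff_isConj.1 h)
      refine Quotient.sound ⟨((g : G) : G ⧸ ρ.ker), ?_⟩
      rw [quotRep_mk, hρ, Equiv.symm_apply_eq]
      exact Subtype.ext ((MulAut.conjNormal_apply g _).trans hg)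
    · intro a
      induction a using Quotient.inductionOn with
      | h a => exact congrArg ConjClasses.mk ((QuotientGroup.eq_one_iff _).2 (e a.1).2)
    · intro a
      induction a using Quotient.inductionOn with
      | h a =>
        intro h
        exact a.2 (e.injective (Subtype.ext ((isConj_one_left.1
          (ConjClasses.mk_eq_mk_iff_isConj.1 h)).trans (by rw [he0, OneMemClass.coe_one]))))
  refine le_trans ?_ (Nat.mul_le_mul_left 60 hk)
  have horb := orb_count (ρ := quotRep ρ) (by omega : 0 < Module.finrank (ZMod p) U)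
  rcases Nat.lt_or_ge p 11 with hsmall | hbig
  swap
  · exact classes_add_orbits hbig _ inferInstance (quotRep_injective ρ) hirr.quotRep (by omega)
  rw [hdim] at horb
  have hp2 : p ^ 2 ≤ p ^ n := Nat.pow_le_pow_right (by omega) hn
  haveI := hirr.1
  have hx1 : 1 ≤ x := one_le_orbNum _
  have hpp := hp.out
  have h57 : p = 5 ∨ p = 7 := by
    rcases (by omega : p = 5 ∨ p = 6 ∨ p = 7 ∨ p = 8 ∨ p = 9 ∨ p = 10) with h | h | h | h | h | h <;>
      first
      | omega
      | (exfalso; rw [h] at hpp; norm_num at hpp)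
  have hle6 : Nat.card (ConjClasses H) ≤ 3 → p ^ 2 - 1 ≤ x * 6 := fun h =>
    le_trans (by omega) (horb.trans (Nat.mul_le_mul_left _ (card_le_six (G := H) h)))
  have hle42 : Nat.card (ConjClasses H) ≤ 4 → p ^ 2 - 1 ≤ x * 42 := fun h =>
    le_trans (by omega) (horb.trans (Nat.mul_le_mul_left _ (card_le_forty_two (G := H) h)))
  have hkH : 1 ≤ Nat.card (ConjClasses H) := Nat.card_pos
  show 49 * p ≤ 60 * (Nat.card (ConjClasses H) + x)
  rcases h57 with h | h <;> subst h <;> norm_num at hle6 hle42 ⊢ <;> omega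

/-- The induction. -/
theorem classes_bound_type : ∀ (N : ℕ) (G : Type) [Group G] [Finite G], Nat.card G = N →
    Group.IsSolvable G → ∀ p : ℕ, p.Prime → p ^ 2 ∣ Nat.card G →
      49 * p ≤ 60 * Nat.card (ConjClasses G) := by
  intro N
  induction N using Nat.strong_induction_on with
  | _ N ih =>
  intro G _ _ hN hsol p hpp hdvd
  haveI := hsol
  haveI := Fact.mk hpp
  have hp2 : p ^ 2 ≤ Nat.card G := Nat.le_of_dvd Nat.card_pos hdvd
  haveI : Nontrivial G := Finite.one_lt_card_iff_nontrivial.1 (by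
    have : 4 ≤ p ^ 2 := Nat.pow_le_pow_left hpp.two_le 2
    omega)
  rcases Nat.lt_or_ge p 5 with hsmall | h5
  · have h2 := two_le_classes (G := G)
    by_cases h3 : Nat.card (ConjClasses G) ≤ 3
    · have h6 := card_le_six h3
      have : p ≤ 2 := by
        by_contra hcon
        have : 9 ≤ p ^ 2 := Nat.pow_le_pow_left (by omega : 3 ≤ p) 2
        omega
      omega
    · omega
  by_cases hex : ∃ V : Subgroup G, IsMinNormal V ∧ p ^ 2 ∣ V.index
  · obtain ⟨V, hV, hdV⟩ := hex
    haveI := hV.1
    have hlt : V.index < N := by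
      rw [← hN, ← V.card_mul_index]
      exact lt_mul_left (Nat.pos_of_ne_zero index_ne_zero_of_finite) (one_lt_card_iff_ne_bot _ |>.2 hV.2.1)
    exact (ih _ hlt (G ⧸ V) rfl inferInstance p hpp hdV).trans (Nat.mul_le_mul_left _
      (card_conjClasses_le_of_surjective (QuotientGroup.mk' V) (QuotientGroup.mk'_surjective V)))
  push Not at hex
  -- every minimal normal subgroup is a `p`-group
  have hmin : ∀ V : Subgroup G, IsMinNormal V →
      (∀ a ∈ V, ∀ b ∈ V, Commute a b) ∧ (∀ a ∈ V, a ^ p = 1) ∧ ∃ n, 0 < n ∧ Nat.card V = p ^ n := by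
    intro V hV
    obtain ⟨q, hq, ⟨hab, hexp⟩, -, n, hn, hcard⟩ := hV.elementaryAbelian_of_solvable
    obtain rfl : q = p := by
      by_contra hne
      refine hex V hV ?_
      have h1 := hdvd
      rw [← V.card_mul_index, hcard] at h1
      exact (Nat.Coprime.pow 2 n ((Nat.coprime_primes hpp hq).2 (Ne.symm hne))).dvd_of_dvd_mul_left h1
    exact ⟨fun a ha b hb => congrArg Subtype.val (hab.is_comm.comm (⟨a, ha⟩ : V) ⟨b, hb⟩), hexp, n, hn,
      hcard⟩
  obtain ⟨V, hV⟩ := exists_isMinNormal (G := G)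
  obtain ⟨hVab, hVexp, n, hn, hcard⟩ := hmin V hV
  haveI := hV.1
  rcases Nat.lt_or_ge n 2 with hn1 | hn2
  swap
  · letI : CommGroup V :=
      { (inferInstance : Group V) with mul_comm := fun a b => Subtype.ext (hVab a a.2 b b.2).eq }
    exact @irred_case G _ _ p _ h5 hsol V hV hVab n hn2 hcard (Additive V) _
      (AddCommGroup.zmodModule fun w =>
        Additive.toMul.injective (Subtype.ext (hVexp _ (Additive.toMul w).2)))
      Additive.toMul fun _ _ => rfl
  obtain rfl : n = 1 := by omega
  rw [pow_one] at hcard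
  have hpidx : p ∣ V.index := by
    have h1 := hdvd
    rw [← V.card_mul_index, hcard, sq] at h1
    exact Nat.dvd_of_mul_dvd_mul_left hpp.pos h1
  have hp2idx : ¬ p ^ 2 ∣ V.index := hex V hV
  set K := centralizer (V : Set G) with hK
  haveI : K.Normal := normal_centralizer
  have hVK : V ≤ K := fun a ha => mem_centralizer_iff.2 fun b hb => (hVab b hb a ha).eq
  -- the centraliser is larger
  have hKne : K.map (QuotientGroup.mk' V) ≠ ⊥ := by
    intro h0
    have hKV : K = V := by
      refine le_antisymm (fun a ha => ?_) hVK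
      have : (QuotientGroup.mk' V) a ∈ K.map (QuotientGroup.mk' V) := ⟨a, ha, rfl⟩
      rw [h0] at this
      exact (QuotientGroup.eq_one_iff a).1 (Subgroup.mem_bot.1 this)
    have hker : (MulAut.conjNormal : G →* MulAut V).ker = K := by
      ext g
      rw [MonoidHom.mem_ker, hK, mem_centralizer_iff]
      constructor
      · intro h v hv
        have h3 := congrArg Subtype.val (DFunLike.congr_fun h (⟨v, hv⟩ : V))
        rw [MulAut.conjNormal_apply, MulAut.one_apply] at h3
        exact (mul_inv_eq_iff_eq_mul.1 h3).symm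
      · intro h
        refine MulEquiv.ext fun v => Subtype.ext ?_
        rw [MulAut.conjNormal_apply, MulAut.one_apply, mul_inv_eq_iff_eq_mul]
        exact (h v v.2).symm
    haveI : IsCyclic V := isCyclic_of_prime_card hcard
    have hdiv : V.index ∣ p - 1 := by
      rw [← hKV, ← hker, index_ker]
      refine (card_subgroup_dvd_card _).trans ?_
      rw [IsCyclic.card_mulAut, hcard, Nat.totient_prime hpp]
    have := Nat.le_of_dvd (by omega) (hpidx.trans hdiv)
    omega
  obtain ⟨W, hW, hWK⟩ := exists_isMinNormal_le (Subgroup.Normal.map inferInstance _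
    (QuotientGroup.mk'_surjective V)) hKne
  haveI := hW.1
  obtain ⟨q, hq, ⟨hWab, hWexp⟩, -, j, hj, hWcard⟩ := hW.elementaryAbelian_of_solvable
  set M := W.comap (QuotientGroup.mk' V) with hM
  haveI : M.Normal := hW.1.comap _
  have hVM : V ≤ M := fun a ha => by
    rw [hM, mem_comap, show (QuotientGroup.mk' V) a = 1 from (QuotientGroup.eq_one_iff a).2 ha]
    exact one_mem W
  have hMK : M ≤ K := by
    intro a ha
    obtain ⟨b, hb, hab⟩ := hWK ha
    have h1 : b⁻¹ * a ∈ V := QuotientGroup.eq.1 hab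
    simpa using mul_mem hb (hVK h1)
  have hcent : ∀ v ∈ V, ∀ a ∈ M, Commute v a := fun v hv a ha => mem_centralizer_iff.1 (hMK ha) v hv
  have hMq : ∀ a ∈ M, a ^ q ∈ V := fun a ha => by
    refine (QuotientGroup.eq_one_iff _).1 ?_
    show (QuotientGroup.mk' V) (a ^ q) = 1
    rw [map_pow]
    exact hWexp _ ha
  obtain rfl : p = q := by
    by_contra hne
    have hcop : Nat.Coprime q p := (Nat.coprime_primes hq hpp).2 (Ne.symm hne)
    have hMab : ∀ a ∈ M, ∀ b ∈ M, Commute a b := by
      intro a ha b hb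
      set c := ⁅a, b⁆ with hc
      have hcV : c ∈ V := by
        refine (QuotientGroup.eq_one_iff _).1 ?_
        show (QuotientGroup.mk' V) c = 1
        rw [hc, map_commutatorElement, commutatorElement_eq_one_iff_commute]
        exact congrArg Subtype.val (hWab.is_comm.comm (⟨_, ha⟩ : W) ⟨_, hb⟩)
      have h1 : a * b * a⁻¹ = c * b := by rw [hc, commutatorElement_def]; group
      have h2 : (a * b * a⁻¹) ^ q = b ^ q := by
        rw [conj_pow, ← (hcent _ (hMq b hb) a ha).eq, mul_inv_cancel_right]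
      rw [h1, (hcent c hcV b hb).mul_pow] at h2
      have h3 : c ^ q = 1 := mul_eq_right.1 h2
      have h4 : c ^ Nat.gcd q p = 1 := pow_gcd_eq_one.2 ⟨h3, hVexp c hcV⟩
      rw [hcop.gcd_eq_one, pow_one] at h4
      exact commutatorElement_eq_one_iff_commute.1 h4
    let Q : Subgroup G :=
      { carrier := {a | a ∈ M ∧ a ^ q = 1}
        one_mem' := ⟨one_mem _, one_pow _⟩
        mul_mem' := fun {a b} ha hb => ⟨mul_mem ha.1 hb.1, by
          rw [(hMab a ha.1 b hb.1).mul_pow, ha.2, hb.2, one_mul]⟩
        inv_mem' := fun {a} ha => ⟨inv_mem ha.1, by rw [inv_pow, ha.2, inv_one]⟩ }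
    have hQn : Q.Normal := ⟨fun a ha g => ⟨Subgroup.Normal.conj_mem inferInstance a ha.1 g, by
      rw [conj_pow, ha.2, mul_one, mul_inv_cancel]⟩⟩
    have hQne : Q ≠ ⊥ := by
      intro h0
      obtain ⟨w, hwW, hw1⟩ := (Subgroup.ne_bot_iff_exists_ne_one.1 hW.2.1) |> fun ⟨w, hw⟩ =>
        (⟨w.1, w.2, fun h => hw (Subtype.ext h)⟩ : ∃ w, w ∈ W ∧ w ≠ 1)
      obtain ⟨a, rfl⟩ := QuotientGroup.mk'_surjective V w
      have h1 : a ^ p ∈ Q := ⟨pow_mem hwW p, by rw [← pow_mul, mul_comm, pow_mul, hVexp _ (hMq a hwW)]⟩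
      rw [h0, Subgroup.mem_bot] at h1
      refine hw1 ?_
      have h2 : (QuotientGroup.mk' V a) ^ Nat.gcd q p = 1 :=
        pow_gcd_eq_one.2 ⟨hWexp _ hwW, by rw [← map_pow, h1, map_one]⟩
      rwa [hcop.gcd_eq_one, pow_one] at h2
    obtain ⟨R, hR, hRQ⟩ := exists_isMinNormal_le hQn hQne
    obtain ⟨-, hRexp, -⟩ := hmin R hR
    obtain ⟨r, hr⟩ := Subgroup.ne_bot_iff_exists_ne_one.1 hR.2.1
    refine hr (Subtype.ext ?_)
    have h4 : (r : G) ^ Nat.gcd q p = 1 := pow_gcd_eq_one.2 ⟨(hRQ r.2).2, hRexp _ r.2⟩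
    rwa [hcop.gcd_eq_one, pow_one] at h4
  have hj1 : j = 1 := by
    by_contra hne
    refine hp2idx ((pow_dvd_pow p (by omega : 2 ≤ j)).trans ?_)
    rw [← hWcard]
    exact card_subgroup_dvd_card W
  subst hj1
  rw [pow_one] at hWcard
  have hrel : V.relIndex M = p := by
    rw [relIndex, ← hWcard]
    have h1 : M.map (QuotientGroup.mk' V) = W := map_comap_eq_self_of_surjective (QuotientGroup.mk'_surjective V) W
    have h2 := relIndex_mul_index hVM
    have h3 := W.card_mul_index
    rw [← h1, index_map_eq _ (QuotientGroup.mk'_surjective V) (by rw [QuotientGroup.ker_mk']; exact hVM), h1] at h3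
    rw [relIndex] at h2
    exact Nat.eq_of_mul_eq_mul_right (Nat.pos_of_ne_zero index_ne_zero_of_finite) (h2.trans h3.symm)
  have hMcard : Nat.card M = p ^ 2 := by
    have h1 := (V.subgroupOf M).card_mul_index
    rw [Nat.card_congr (subgroupOfEquivOfLe hVM).toEquiv, hcard] at h1
    rw [← h1, sq]
    exact congrArg (p * ·) hrel
  have hco : ¬ p ∣ M.index := fun h => hp2idx (by
    rw [← relIndex_mul_index hVM, hrel, sq]
    exact mul_dvd_mul_left p h)
  have hMab : ∀ a ∈ M, ∀ b ∈ M, Commute a b := fun a ha b hb => by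
    haveI := IsPGroup.isMulCommutative_of_card_eq_prime_sq hMcard
    exact congrArg Subtype.val ((IsMulCommutative.is_comm (M := M)).comm ⟨a, ha⟩ ⟨b, hb⟩)
  exact sylow_case V M hVM hMcard hcard hco hMab

/-- Solvable groups of order divisible by `p ^ 2` have at least `49 p / 60` classes. -/
theorem classes_bound_solvable.{u} {G : Type u} [Group G] [Finite G] (hsol : Group.IsSolvable G) {p : ℕ}
    (hp : p.Prime) (hdvd : p ^ 2 ∣ Nat.card G) : 49 * p ≤ 60 * Nat.card (ConjClasses G) := by
  haveI : Finite (Shrink.{0} G) := Finite.of_equiv G (equivShrink.{0} G)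
  have hc : Nat.card (Shrink.{0} G) = Nat.card G := (Nat.card_congr (equivShrink.{0} G)).symm
  let f : G ≃* Shrink.{0} G := (Shrink.mulEquiv.{0} (α := G)).symm
  haveI := hsol
  exact (classes_bound_type _ (Shrink.{0} G) rfl (Group.isSolvable_of_surjective (f := f.toMonoidHom) f.surjective) p hp
    (by rw [hc]; exact hdvd)).trans
    (Nat.mul_le_mul_left _ (card_conjClasses_le_of_surjective f.toMonoidHom f.surjective))

end CfsgLib.Class49
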